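import Cfsg.Agent.Lib.Fusion.PrimeResidual.Invariance
import Cfsg.Agent.Lib.Fusion.PrimeIndex

/-!
Maps of the core of a weakly normal subsystem extend over `C_S(T)`, trivially modulo `T`.
-/

set_option autoImplicit false
set_option linter.unusedSectionVars false

namespace Cfsg.FusionSystem

universe u
variable {Ω : Type u} [Group Ω] {S T : Subgroup Ω} {E : FusionSystem T} {F : FusionSystem S}
  {p : ℕ} {P Q W : Subgroup Ω} {b f ψ : Ω → Ω}

/-- Products in `P C_S(T)`. -/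
theorem mem_sup_centralizerIn (hP : P ≤ T) {x : Ω} :
    x ∈ P ⊔ centralizerIn S T ↔ ∃ y ∈ P, ∃ c ∈ centralizerIn S T, x = y * c := by
  constructor
  · intro hx
    have hn : centralizerIn S T ≤ Subgroup.normalizer (P : Set Ω) := fun c hc => by
      rw [Subgroup.mem_normalizer_iff]
      intro y
      constructor
      · intro hy
        rwa [← Subgroup.mem_centralizer_iff.mp hc.2 y (hP hy), mul_inv_cancel_right]
      · intro hy
        have h1 := Subgroup.mem_centralizer_iff.mp hc.2 _ (hP hy)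
        rw [inv_mul_cancel_right] at h1
        have h2 : c * y * c⁻¹ = y := (mul_left_cancel h1).symm
        rwa [h2] at hy
    have hx' : x ∈ (↑(P ⊔ centralizerIn S T) : Set Ω) := hx
    rw [Subgroup.coe_mul_of_right_le_normalizer_left P _ hn] at hx'
    obtain ⟨y, hy, c, hc, rfl⟩ := hx'
    exact ⟨y, hy, c, hc, rfl⟩
  · rintro ⟨y, hy, c, hc, rfl⟩
    exact mul_mem (Subgroup.mem_sup_left hy) (Subgroup.mem_sup_right hc)

/-- An extension over `C_S(T)` which is trivial modulo `T`. -/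
def IsLift (F : FusionSystem S) (T P Q : Subgroup Ω) (f ψ : Ω → Ω) : Prop :=
  F.IsIso (P ⊔ centralizerIn S T) (Q ⊔ centralizerIn S T) ψ ∧ (∀ x ∈ P, ψ x = f x) ∧
    ∀ c ∈ centralizerIn S T, c⁻¹ * ψ c ∈ T

theorem IsLift.moved (hE : E.IsInvariantIn F) (hP : E.IsCentric P) (hi : E.IsIso P Q f) {ψ : Ω → Ω} {R : Subgroup Ω}
    (h1 : F.IsIso (P ⊔ centralizerIn S T) R ψ) (h2 : ∀ x ∈ P, ψ x = f x) {c : Ω}
    (hc : c ∈ centralizerIn S T) (h3 : c⁻¹ * ψ c ∈ T) : c⁻¹ * ψ c ∈ Q := by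
  refine hP.2 Q hi.isConj ⟨h3, Subgroup.mem_centralizer_iff.mpr fun y hy => ?_⟩
  obtain ⟨x, hx, rfl⟩ := hi.surj hy
  have e1 : ψ c * f x = f x * ψ c := by
    rw [← h2 x hx, ← h1.apply_mul (Subgroup.mem_sup_right hc) (Subgroup.mem_sup_left hx),
      ← Subgroup.mem_centralizer_iff.mp hc.2 x (hP.1 hx),
      h1.apply_mul (Subgroup.mem_sup_left hx) (Subgroup.mem_sup_right hc)]
  have e2 := Subgroup.mem_centralizer_iff.mp hc.2 (f x) (hi.le_right (hi.mem hx))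
  calc f x * (c⁻¹ * ψ c) = c⁻¹ * (c * f x) * c⁻¹ * ψ c := by group
    _ = c⁻¹ * (f x * c) * c⁻¹ * ψ c := by rw [e2]
    _ = c⁻¹ * (f x * ψ c) := by group
    _ = c⁻¹ * (ψ c * f x) := by rw [e1]
    _ = c⁻¹ * ψ c * f x := by group

theorem IsLift.of_isIso [Finite S] (hE : E.IsInvariantIn F) (hP : E.IsCentric P) (hi : E.IsIso P Q f)
    {R : Subgroup Ω} (h1 : F.IsIso (P ⊔ centralizerIn S T) R ψ) (h2 : ∀ x ∈ P, ψ x = f x)
    (h3 : ∀ c ∈ centralizerIn S T, c⁻¹ * ψ c ∈ T) : IsLift F T P Q f ψ := by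
  refine ⟨?_, h2, h3⟩
  suffices R = Q ⊔ centralizerIn S T by rwa [← this]
  apply le_antisymm
  · intro y hy
    obtain ⟨x, hx, rfl⟩ := h1.surj hy
    obtain ⟨u, hu, c, hc, rfl⟩ := (mem_sup_centralizerIn hP.1).mp hx
    rw [h1.apply_mul (Subgroup.mem_sup_left hu) (Subgroup.mem_sup_right hc), h2 u hu,
      show ψ c = c * (c⁻¹ * ψ c) by group]
    exact mul_mem (Subgroup.mem_sup_left (hi.mem hu))
      (mul_mem (Subgroup.mem_sup_right hc) (Subgroup.mem_sup_left (IsLift.moved hE hP hi h1 h2 hc (h3 c hc))))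
  · refine sup_le (fun y hy => ?_) (fun c hc => ?_)
    · obtain ⟨x, hx, rfl⟩ := hi.surj hy
      rw [← h2 x hx]
      exact h1.mem (Subgroup.mem_sup_left hx)
    · obtain ⟨x, hx, hxe⟩ := hi.surj (IsLift.moved hE hP hi h1 h2 hc (h3 c hc))
      have h := R.mul_mem (h1.mem (Subgroup.mem_sup_right hc)) (R.inv_mem (h1.mem (Subgroup.mem_sup_left hx)))
      rw [h2 x hx, hxe] at h
      simpa [mul_assoc] using h

/-- The maps of `E` that lift whenever their source is centric. -/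
def liftingSystem [Finite S] (hE : E.IsInvariantIn F) : FusionSystem T where
  Hom P := {φ | φ ∈ E.Hom P ∧ (E.IsCentric P → ∃ ψ, IsLift F T P φ.range (funOf φ) ψ)}
  le_of_mem h := E.le_of_mem h.1
  injective_of_mem h := E.injective_of_mem h.1
  conj_mem := by
    intro P g hP hg
    refine ⟨E.conj_mem hP hg, fun hc => ?_⟩
    have hle : P ⊔ centralizerIn S T ≤ S := sup_le (hP.trans hE.2.1.1) centralizerIn_le
    refine ⟨fun x => g * x * g⁻¹, IsLift.of_isIso hE hc (isIso_funOf (E.conj_mem hP hg))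
      (isIso_conj hle (hE.2.1.1 hg)) (fun x hx => funOf_apply (conjHom P g) ⟨x, hx⟩) fun c hcc => ?_⟩
    rw [Subgroup.mem_centralizer_iff.mp hcc.2 g hg, mul_inv_cancel_right, inv_mul_cancel]
    exact T.one_mem
  comp_mem := by
    rintro P Q φ χ ⟨hφ, hφl⟩ ⟨hχ, hχl⟩ hh
    refine ⟨E.comp_mem hφ hχ hh, fun hc => ?_⟩
    haveI := finite_of_le hE.2.1.1
    obtain ⟨ψ, hψ, hψe, hψc⟩ := hφl hc
    have hrQ : φ.range ≤ Q := by
      rintro _ ⟨x, rfl⟩
      exact hh x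
    have hQT := E.source_le hχ
    haveI := finite_of_le hE.2.1.1
    have hQc : E.IsCentric Q := isCentric_of_le (hc.of_isConj ⟨φ, hφ, rfl⟩) hrQ hQT
    obtain ⟨ψ', hψ', hψ'e, hψ'c⟩ := hχl hQc
    obtain ⟨R, hR, -, -⟩ := hψ'.restrict (sup_le_sup_right hrQ (centralizerIn S T))
    refine ⟨fun x => ψ' (ψ x), IsLift.of_isIso hE hc (isIso_funOf (E.comp_mem hφ hχ hh)) (hψ.comp hR)
      (fun x hx => ?_) fun c hcc => ?_⟩
    · show ψ' (ψ x) = _
      rw [hψe x hx, ← funOf_apply φ ⟨x, hx⟩, hψ'e _ (hh ⟨x, hx⟩), ← funOf_apply χ ⟨_, hh ⟨x, hx⟩⟩,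
        ← funOf_apply _ ⟨x, hx⟩]
      rfl
    · show c⁻¹ * ψ' (ψ c) ∈ T
      have ht : c⁻¹ * ψ c ∈ φ.range := IsLift.moved hE hc (isIso_funOf hφ) hψ hψe hcc (hψc c hcc)
      have e : ψ c = c * (c⁻¹ * ψ c) := by group
      rw [e, hψ'.apply_mul (Subgroup.mem_sup_right hcc) (Subgroup.mem_sup_left (hrQ ht)), ← mul_assoc]
      refine T.mul_mem (hψ'c c hcc) ?_
      rw [hψ'e _ (hrQ ht)]
      exact (isIso_funOf hχ).le_right ((isIso_funOf hχ).mem (hrQ ht))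
  inv_mem := by
    rintro P φ ⟨hφ, hφl⟩
    obtain ⟨χ, hχ, hχe⟩ := E.inv_mem hφ
    refine ⟨χ, ⟨hχ, fun hc => ?_⟩, hχe⟩
    haveI := finite_of_le hE.2.1.1
    have hPc : E.IsCentric P := hc.of_isConj (IsConj.symm ⟨φ, hφ, rfl⟩)
    obtain ⟨ψ, hψ, hψe, hψc⟩ := hφl hPc
    obtain ⟨ψ', hψ', hl, hr⟩ := hψ.symm
    refine ⟨ψ', IsLift.of_isIso hE hc (isIso_funOf hχ) hψ' ?_ fun c hcc => ?_⟩
    · rintro _ ⟨x, rfl⟩
      rw [← funOf_apply χ ⟨φ x, x, rfl⟩, hχe x, funOf_apply φ x, ← hψe x x.2,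
        hl x (Subgroup.mem_sup_left x.2)]
    · obtain ⟨x, hx, hxe⟩ := (isIso_funOf hφ).surj (IsLift.moved hE hPc (isIso_funOf hφ) hψ hψe hcc (hψc c hcc))
      have hcx : c * x⁻¹ ∈ P ⊔ centralizerIn S T :=
        mul_mem (Subgroup.mem_sup_right hcc) (Subgroup.mem_sup_left (P.inv_mem hx))
      have h1 : ψ (c * x⁻¹) = c := by
        rw [hψ.apply_mul (Subgroup.mem_sup_right hcc) (Subgroup.mem_sup_left (P.inv_mem hx)),
          hψ.apply_inv (Subgroup.mem_sup_left hx), hψe x hx, hxe]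
        group
      rw [show ψ' c = c * x⁻¹ from (congrArg ψ' h1).symm.trans (hl _ hcx), inv_mul_cancel_left]
      exact T.inv_mem (hPc.1 hx)

/-- Automorphisms of `p`-power order of centric subgroups lift. -/
theorem IsWeaklyNormalIn.pAut_lift [Finite S] [Fact p.Prime] (hS : IsPGroup p S)
    (hE : E.IsWeaklyNormalIn F p) (hP : E.IsCentric P) (hf : E.IsPAut p P f) :
    ∃ ψ, IsLift F T P P f ψ := by
  obtain ⟨-, hF, hEi⟩ := id hE
  haveI := finite_of_le hEi.2.1.1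
  have hTS := hEi.2.1.1
  obtain ⟨P₁, h, g, g', x, hP₁, hP₁T, hh, hg, hg', hgl, hgr, hx, hform⟩ := hE.pAut_form hS hf
  have hrec := hF.isReceptive_of_isFullyNormalized hS hP₁
  have hP₁c : E.IsCentric P₁ := hEi.isCentric_of_isIso hP hh
  have hP₁S : P₁ ≤ S := hP₁.1
  set W₁ : Subgroup Ω := P₁ ⊔ centralizerIn S P₁ with hW₁
  have hW₁S : W₁ ≤ S := sup_le hP₁S centralizerIn_le
  haveI := finite_of_le hW₁S
  have hcn : centralizerIn S P₁ ≤ Subgroup.normalizer (P₁ : Set Ω) := centralizerIn_le_normalizerIn.trans fun y hy => hy.2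
  have hW₁n : W₁ ≤ Subgroup.normalizer (P₁ : Set Ω) := sup_le Subgroup.le_normalizer hcn
  have hmemW : ∀ w ∈ W₁, ∃ u ∈ P₁, ∃ d ∈ centralizerIn S P₁, w = u * d := fun w hw => by
    have hw' : w ∈ (↑(P₁ ⊔ centralizerIn S P₁) : Set Ω) := hw
    rw [Subgroup.coe_mul_of_right_le_normalizer_left P₁ _ hcn] at hw'
    obtain ⟨y, hy, c, hc, rfl⟩ := hw'
    exact ⟨y, hy, c, hc, rfl⟩
  -- the inner part of the normal form extends
  obtain ⟨gx, R, hgx, hgxe⟩ := hrec.extend (hg.mono hEi.1) hW₁S le_sup_left hW₁n fun w hw => by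
    obtain ⟨u, hu, d, hd, rfl⟩ := hmemW w hw
    refine ⟨g u, hP₁S (hg.mem hu), fun y hy => ?_⟩
    rw [show u * d * y * (u * d)⁻¹ = u * y * u⁻¹ by
      rw [mul_inv_rev, show u * d * y = u * (d * y) by group, ← Subgroup.mem_centralizer_iff.mp hd.2 y hy]
      group]
    exact hg.apply_conj hu hy
  have hmg : ∀ y, y ∈ P₁ ↔ ∃ z ∈ P₁, gx z = y := fun y => ⟨fun hy => by
    obtain ⟨z, hz, rfl⟩ := hg.surj hy
    exact ⟨z, hz, hgxe z hz⟩, fun ⟨z, hz, he⟩ => he ▸ (hgxe z hz) ▸ hg.mem hz⟩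
  have hR : R = W₁ := hgx.eq_of_le hW₁S (fun y hy => by
    obtain ⟨w, hw, rfl⟩ := hgx.surj hy
    obtain ⟨u, hu, d, hd, rfl⟩ := hmemW w hw
    rw [hgx.apply_mul (Subgroup.mem_sup_left hu) (Subgroup.mem_sup_right hd)]
    exact mul_mem (Subgroup.mem_sup_left ((hmg _).mpr ⟨u, hu, rfl⟩))
      (Subgroup.mem_sup_right ⟨hgx.le_right (hgx.mem (Subgroup.mem_sup_right hd)),
        hgx.mem_centralizer le_sup_left hmg (Subgroup.mem_sup_right hd) hd.2⟩)) le_rfl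
  subst hR
  obtain ⟨gx', hgx', hgxl, hgxr⟩ := hgx.symm
  have hxW : x ∈ Subgroup.normalizer (W₁ : Set Ω) := by
    have hxS : x ∈ S := hTS hx.1
    have hc1 : x ∈ Subgroup.normalizer (centralizerIn S P₁ : Set Ω) := by
      rw [Subgroup.mem_normalizer_iff]
      intro d
      have hS' : d ∈ S ↔ x * d * x⁻¹ ∈ S := Subgroup.mem_normalizer_iff.mp (Subgroup.le_normalizer hxS) d
      have hC' : d ∈ Subgroup.centralizer (P₁ : Set Ω) ↔ x * d * x⁻¹ ∈ Subgroup.centralizer (P₁ : Set Ω) := by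
        constructor <;> intro hd <;> refine Subgroup.mem_centralizer_iff.mpr fun y hy => ?_
        · have hy' := (Subgroup.mem_normalizer_iff''.mp hx.2 y).mp hy
          have h1 := Subgroup.mem_centralizer_iff.mp hd _ hy'
          calc y * (x * d * x⁻¹) = x * (x⁻¹ * y * x * d) * x⁻¹ := by group
            _ = x * (d * (x⁻¹ * y * x)) * x⁻¹ := by rw [h1]
            _ = x * d * x⁻¹ * y := by group
        · have h1 := Subgroup.mem_centralizer_iff.mp hd _ ((Subgroup.mem_normalizer_iff.mp hx.2 y).mp hy)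
          calc y * d = x⁻¹ * (x * y * x⁻¹ * (x * d * x⁻¹)) * x := by group
            _ = x⁻¹ * (x * d * x⁻¹ * (x * y * x⁻¹)) * x := by rw [h1]
            _ = d * y := by group
      exact ⟨fun h => ⟨hS'.mp h.1, hC'.mp h.2⟩, fun h => ⟨hS'.mpr h.1, hC'.mpr h.2⟩⟩
    exact Subgroup.normalizer_inf_normalizer_le_normalizer_sup P₁ (centralizerIn S P₁) ⟨hx.2, hc1⟩
  -- the automorphism of `P₁ C_S(P₁)`, trivial modulo `P₁`
  have hψ₁ := (hgx'.comp (isIso_conj_normalizer (E := F) hW₁S (hTS hx.1) hxW)).comp hgx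
  set ψ₁ : Ω → Ω := fun w => gx (x * gx' w * x⁻¹) with hψ₁def
  have hψ₁P : ∀ y ∈ P₁, ψ₁ y = g (x * g' y * x⁻¹) := fun y hy => by
    have e : gx' y = g' y := by
      rw [← hgr y hy, ← hgxe _ (hg'.mem hy), hgxl _ (Subgroup.mem_sup_left (hg'.mem hy)),
        hgxe _ (hg'.mem hy), hgr y hy]
    show gx (x * gx' y * x⁻¹) = _
    rw [e, hgxe _ ((Subgroup.mem_normalizer_iff.mp hx.2 _).mp (hg'.mem hy))]
  have hψ₁P' : ∀ y ∈ P₁, ψ₁ y ∈ P₁ := fun y hy => by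
    rw [hψ₁P y hy]
    exact hg.mem ((Subgroup.mem_normalizer_iff.mp hx.2 _).mp (hg'.mem hy))
  have htriv : ∀ w ∈ W₁, w⁻¹ * ψ₁ w ∈ P₁ := by
    intro w hw
    obtain ⟨u, hu, d, hd, rfl⟩ := hmemW w hw
    have hdd : d⁻¹ * ψ₁ d ∈ P₁ := by
      have hd' : gx' d ∈ W₁ := hgx'.mem (Subgroup.mem_sup_right hd)
      have hd'c : gx' d ∈ Subgroup.centralizer (P₁ : Set Ω) :=
        hgx'.mem_centralizer le_sup_left (fun y => ⟨fun hy => ⟨gx y, (hmg _).mpr ⟨y, hy, rfl⟩,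
          hgxl y (Subgroup.mem_sup_left hy)⟩, fun ⟨z, hz, he⟩ => by
            obtain ⟨v, hv, rfl⟩ := (hmg z).mp hz
            rw [hgxl v (Subgroup.mem_sup_left hv)] at he
            exact he ▸ hv⟩) (Subgroup.mem_sup_right hd) hd.2
      set d' := gx' d with hd'def
      have hxd : x * d' * x⁻¹ ∈ W₁ := (Subgroup.mem_normalizer_iff.mp hxW d').mp hd'
      have hz : d'⁻¹ * (x * d' * x⁻¹) ∈ P₁ := by
        refine hP₁c.2 P₁ (E.isConj_refl hP₁T) ⟨?_, Subgroup.mem_centralizer_iff.mpr fun y hy => ?_⟩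
        · rw [show d'⁻¹ * (x * d' * x⁻¹) = (d'⁻¹ * x * d') * x⁻¹ by group]
          refine T.mul_mem ?_ (T.inv_mem hx.1)
          exact (Subgroup.mem_normalizer_iff''.mp (hEi.2.1.le_normalizer (hW₁S hd')) x).mp hx.1
        · have hy' := (Subgroup.mem_normalizer_iff''.mp hx.2 y).mp hy
          have h1 := Subgroup.mem_centralizer_iff.mp hd'c _ hy'
          have h2 := Subgroup.mem_centralizer_iff.mp hd'c y hy
          calc y * (d'⁻¹ * (x * d' * x⁻¹)) = d'⁻¹ * (d' * y) * d'⁻¹ * (x * d' * x⁻¹) := by group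
            _ = d'⁻¹ * (y * d') * d'⁻¹ * (x * d' * x⁻¹) := by rw [h2]
            _ = d'⁻¹ * (y * (x * d' * x⁻¹)) := by group
            _ = d'⁻¹ * (x * (x⁻¹ * y * x * d') * x⁻¹) := by group
            _ = d'⁻¹ * (x * (d' * (x⁻¹ * y * x)) * x⁻¹) := by rw [h1]
            _ = d'⁻¹ * (x * d' * x⁻¹) * y := by group
      have : d⁻¹ * ψ₁ d = gx (d'⁻¹ * (x * d' * x⁻¹)) := by
        rw [hgx.apply_mul (W₁.inv_mem hd') hxd, hgx.apply_inv hd', hgxr d (Subgroup.mem_sup_right hd)]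
      rw [this]
      exact (hmg _).mpr ⟨_, hz, rfl⟩
    rw [hψ₁.apply_mul (Subgroup.mem_sup_left hu) (Subgroup.mem_sup_right hd)]
    rw [show (u * d)⁻¹ * (ψ₁ u * ψ₁ d) = d⁻¹ * (u⁻¹ * ψ₁ u) * d * (d⁻¹ * ψ₁ d) by group]
    exact P₁.mul_mem ((Subgroup.mem_normalizer_iff''.mp (hcn hd) _).mp (P₁.mul_mem (P₁.inv_mem hu) (hψ₁P' u hu))) hdd
  -- pull back
  have hPT := hP.1
  set V : Subgroup Ω := P ⊔ centralizerIn S T with hV
  have hVS : V ≤ S := sup_le (hPT.trans hTS) centralizerIn_le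
  have hVn : V ≤ Subgroup.normalizer (P : Set Ω) := sup_le Subgroup.le_normalizer fun c hc => by
    rw [Subgroup.mem_normalizer_iff]
    intro y
    constructor
    · intro hy
      rwa [← Subgroup.mem_centralizer_iff.mp hc.2 y (hPT hy), mul_inv_cancel_right]
    · intro hy
      have h1 := Subgroup.mem_centralizer_iff.mp hc.2 _ (hPT hy)
      rw [inv_mul_cancel_right] at h1
      have h2 : c * y * c⁻¹ = y := (mul_left_cancel h1).symm
      rwa [h2] at hy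
  obtain ⟨hx', M, hM, hMe⟩ := hrec.extend hh hVS le_sup_left hVn fun w hw => by
    obtain ⟨u, hu, c, hc, rfl⟩ := (mem_sup_centralizerIn hPT).mp hw
    refine ⟨h u, hh.le_right (hh.mem hu), fun y hy => ?_⟩
    rw [show u * c * y * (u * c)⁻¹ = u * y * u⁻¹ by
      rw [mul_inv_rev, show u * c * y = u * (c * y) by group, ← Subgroup.mem_centralizer_iff.mp hc.2 y (hPT hy)]
      group]
    exact hh.apply_conj hu hy
  have hPimg : ∀ y, y ∈ P₁ ↔ ∃ z ∈ P, hx' z = y := fun y => ⟨fun hy => by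
    obtain ⟨z, hz, rfl⟩ := hh.surj hy
    exact ⟨z, hz, hMe z hz⟩, fun ⟨z, hz, he⟩ => he ▸ (hMe z hz) ▸ hh.mem hz⟩
  have hP₁M : P₁ ≤ M := fun y hy => by
    obtain ⟨z, hz, rfl⟩ := (hPimg y).mp hy
    exact hM.mem (Subgroup.mem_sup_left hz)
  have hMW : M ≤ W₁ := fun y hy => by
    obtain ⟨w, hw, rfl⟩ := hM.surj hy
    obtain ⟨u, hu, c, hc, rfl⟩ := (mem_sup_centralizerIn hPT).mp hw
    rw [hM.apply_mul (Subgroup.mem_sup_left hu) (Subgroup.mem_sup_right hc)]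
    exact mul_mem (Subgroup.mem_sup_left ((hPimg _).mpr ⟨u, hu, rfl⟩))
      (Subgroup.mem_sup_right ⟨hM.le_right (hM.mem (Subgroup.mem_sup_right hc)),
        hM.mem_centralizer le_sup_left hPimg (Subgroup.mem_sup_right hc)
          (Subgroup.centralizer_le hPT hc.2)⟩)
  obtain ⟨M', hψ₁M, -, hM'⟩ := hψ₁.restrict hMW
  obtain ⟨hinv, hhinv, hil, hir⟩ := hM.symm
  have hM'M : M' ≤ M := fun y hy => by
    obtain ⟨m, hm, rfl⟩ := (hM' y).mp hy
    show ψ₁ m ∈ M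
    rw [show ψ₁ m = m * (m⁻¹ * ψ₁ m) by group]
    exact M.mul_mem hm (hP₁M (htriv m (hMW hm)))
  obtain ⟨M'', hres, -, -⟩ := hhinv.restrict hM'M
  refine ⟨_, IsLift.of_isIso hEi hP hf.1 ((hM.comp hψ₁M).comp hres) (fun y hy => ?_) fun c hc => ?_⟩
  · show hinv (ψ₁ (hx' y)) = f y
    rw [hMe y hy, hψ₁P _ (hh.mem hy), ← hform y hy, ← hMe _ (hf.1.mem hy),
      hil _ (Subgroup.mem_sup_left (hf.1.mem hy))]
  · show c⁻¹ * hinv (ψ₁ (hx' c)) ∈ T
    have hm := hM.mem (Subgroup.mem_sup_right (S := P) hc)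
    obtain ⟨u, hu, hue⟩ := (hPimg _).mp (htriv _ (hMW hm))
    rw [show ψ₁ (hx' c) = hx' c * ((hx' c)⁻¹ * ψ₁ (hx' c)) by group, ← hue,
      ← hM.apply_mul (Subgroup.mem_sup_right hc) (Subgroup.mem_sup_left hu),
      hil _ (mul_mem (Subgroup.mem_sup_right hc) (Subgroup.mem_sup_left hu)), inv_mul_cancel_left]
    exact hPT hu

/-- Maps of the core with centric source lift. -/
theorem IsWeaklyNormalIn.core_lift [Finite S] [Fact p.Prime] (hS : IsPGroup p S)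
    (hE : E.IsWeaklyNormalIn F p) (hP : E.IsCentric P) (h : (ampleCore E p).IsIso P Q f) :
    ∃ ψ, IsLift F T P Q f ψ := by
  haveI := finite_of_le hE.2.2.2.1.1
  have hK : IsAmple E p (liftingSystem hE.2.2) := by
    refine ⟨fun P φ h => h.1, fun R hR => ?_⟩
    rw [Subgroup.map_le_iff_le_comap]
    refine (Subgroup.closure_le _).mpr fun a ha => ?_
    obtain ⟨k, hk⟩ := ha
    obtain ⟨g, hg, hge⟩ := isPAut_of_aut hR.1 a.2 ⟨k, by rw [Subgroup.orderOf_coe, hk]⟩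
    obtain ⟨φ, hφ, hφr, hφe⟩ := id hg.1
    refine (liftingSystem hE.2.2).mem_autGroup_of_map (φ := φ) ⟨hφ, fun hc => ?_⟩ fun x => (hge x).trans (hφe x).symm
    obtain ⟨ψ, h1, h2, h3⟩ := hE.pAut_lift hS hc hg
    refine ⟨ψ, hφr.symm ▸ h1, fun x hx => (h2 x hx).trans ?_, h3⟩
    rw [← hφe ⟨x, hx⟩]
    exact funOf_apply φ ⟨x, hx⟩
  obtain ⟨φ, hφ, hr, he⟩ := h
  obtain ⟨ψ, h1, h2, h3⟩ := (isAmple_ampleCore _ hK P hφ).2 hP
  exact ⟨ψ, hr ▸ h1, fun x hx => (h2 x hx).trans ((funOf_apply φ ⟨x, hx⟩).symm.trans (he ⟨x, hx⟩)), h3⟩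

end Cfsg.FusionSystem
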