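import Cfsg.Agent.Lib.Fusion.Invariant
import Cfsg.Agent.Lib.Fusion.DirectFactor
import Cfsg.Agent.Lib.Fusion.Centric
import Cfsg.Agent.Lib.Fusion.Iso

/-!
Weakly normal subsystems: automorphisms of `p`-power order and centric subgroups.
-/

set_option autoImplicit false
set_option linter.unusedSectionVars false

namespace Cfsg.FusionSystem

universe u
variable {Ω : Type u} [Group Ω] {S T : Subgroup Ω} {E D : FusionSystem T} {F : FusionSystem S}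
  {p : ℕ} {P P' Q Q' V V' : Subgroup Ω} {f f' g h h' : Ω → Ω}

theorem coe_pow_apply {α : MulAut P} (hαf : ∀ x : P, ((α x : P) : Ω) = f x) (k : ℕ) (x : P) :
    (((α ^ k) x : P) : Ω) = f^[k] x := by
  induction k with
  | zero => rfl
  | succ k ih =>
    rw [pow_succ', MulAut.mul_apply, hαf, ih, Function.iterate_succ_apply']

/-- `f` is an automorphism of `P` in the system of `p`-power order. -/
def IsPAut {U : Subgroup Ω} (E : FusionSystem U) (p : ℕ) (P : Subgroup Ω) (f : Ω → Ω) : Prop :=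
  E.IsIso P P f ∧ ∃ k : ℕ, ∀ x ∈ P, f^[p ^ k] x = x

theorem IsPAut.toAut [Fact p.Prime] {U : Subgroup Ω} {E : FusionSystem U} (hf : E.IsPAut p P f) :
    ∃ α ∈ E.autGroup P, (∀ x : P, ((α x : P) : Ω) = f x) ∧ ∃ k : ℕ, orderOf α = p ^ k := by
  obtain ⟨hi, k, hk⟩ := hf
  obtain ⟨α, hα, he⟩ := hi.toAut
  refine ⟨α, hα, he, ?_⟩
  have h1 : α ^ (p ^ k) = 1 := MulEquiv.ext fun x => Subtype.ext ((coe_pow_apply he _ x).trans (hk x x.2))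
  obtain ⟨j, -, hj⟩ := (Nat.dvd_prime_pow Fact.out).mp (orderOf_dvd_of_pow_eq_one h1)
  exact ⟨j, hj⟩

theorem isPAut_of_aut {U : Subgroup Ω} {E : FusionSystem U} (hP : P ≤ U) {α : MulAut P}
    (hα : α ∈ E.autGroup P) (hp : ∃ k : ℕ, orderOf α = p ^ k) :
    ∃ f, E.IsPAut p P f ∧ ∀ x : P, ((α x : P) : Ω) = f x := by
  obtain ⟨f, hf, he⟩ := isIso_of_aut hP hα
  obtain ⟨k, hk⟩ := hp
  refine ⟨f, ⟨hf, k, fun x hx => ?_⟩, he⟩
  rw [← coe_pow_apply he _ ⟨x, hx⟩, ← hk, pow_orderOf_eq_one]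
  rfl

theorem IsPAut.mono {U U' : Subgroup Ω} {E : FusionSystem U} {E' : FusionSystem U'} (hf : E.IsPAut p P f)
    (hle : E.IsSubsystemOf E') : E'.IsPAut p P f := ⟨hf.1.mono hle, hf.2⟩

theorem iterate_semiconj (he : ∀ x ∈ P, f' (h x) = h (f x)) (hm : ∀ x ∈ P, f x ∈ P) (n : ℕ)
    {x : Ω} (hx : x ∈ P) : f'^[n] (h x) = h (f^[n] x) := by
  induction n generalizing x with
  | zero => rfl
  | succ n ih => rw [Function.iterate_succ_apply, he x hx, ih (hm x hx), Function.iterate_succ_apply]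

theorem IsInvariantIn.iso_transport (hE : E.IsInvariantIn F) (hh : F.IsIso V V' h) (hVT : V ≤ T)
    (hf : E.IsIso P Q f) (hP : P ≤ V) (hQ : Q ≤ V) (hP' : ∀ y, y ∈ P' ↔ ∃ x ∈ P, h x = y)
    (hQ' : ∀ y, y ∈ Q' ↔ ∃ x ∈ Q, h x = y) :
    ∃ f', E.IsIso P' Q' f' ∧ ∀ x ∈ P, f' (h x) = h (f x) := by
  obtain ⟨ψ, hψ, -, hψe⟩ := id hh
  obtain ⟨φ, hφ, hr, hφe⟩ := id hf
  have hφV : ∀ x : P, φ x ∈ V := fun x => hQ (hr.le ⟨x, rfl⟩)
  obtain ⟨χ, hχ, hχe⟩ := hE.strongInvariance P V hP hVT φ hφ hφV ψ hψ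
  have hmem : ∀ x : P, ψ (Subgroup.inclusion hP x) ∈ (P.subgroupOf V).map ψ := fun x =>
    ⟨Subgroup.inclusion hP x, x.2, rfl⟩
  have heq : (P.subgroupOf V).map ψ = P' := by
    ext y
    rw [hP']
    constructor
    · rintro ⟨x, hx, rfl⟩
      exact ⟨x, hx, (hψe x).symm⟩
    · rintro ⟨x, hx, rfl⟩
      exact ⟨⟨x, hP hx⟩, hx, hψe _⟩
  subst heq
  have hiso := isIso_funOf hχ
  have hval : ∀ x ∈ P, funOf χ (h x) = h (f x) := fun x hx => by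
    have e1 : h x = ψ (Subgroup.inclusion hP ⟨x, hx⟩) := (hψe (Subgroup.inclusion hP ⟨x, hx⟩)).symm
    rw [e1, ← funOf_apply χ ⟨_, hmem ⟨x, hx⟩⟩, hχe ⟨x, hx⟩ (hmem _), hψe]
    exact congrArg h (hφe _)
  refine ⟨funOf χ, ?_, hval⟩
  have heq' : χ.range = Q' := by
    ext y
    rw [hQ']
    constructor
    · intro hy
      obtain ⟨z, hz, rfl⟩ := hiso.surj hy
      obtain ⟨x, hx, rfl⟩ := (hP' z).mp hz
      exact ⟨f x, hf.mem hx, (hval x hx).symm⟩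
    · rintro ⟨z, hz, rfl⟩
      obtain ⟨x, hx, rfl⟩ := hf.surj hz
      rw [← hval x hx]
      exact hiso.mem ((hP' _).mpr ⟨x, hx, rfl⟩)
  exact heq' ▸ hiso

theorem IsInvariantIn.pAut_transport (hE : E.IsInvariantIn F) (hh : F.IsIso V V' h) (hVT : V ≤ T)
    (hf : E.IsPAut p P f) (hP : P ≤ V) (hP' : ∀ y, y ∈ P' ↔ ∃ x ∈ P, h x = y) :
    ∃ f', E.IsPAut p P' f' ∧ ∀ x ∈ P, f' (h x) = h (f x) := by
  obtain ⟨f', hf', he⟩ := hE.iso_transport hh hVT hf.1 hP hP hP' hP'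
  obtain ⟨k, hk⟩ := hf.2
  refine ⟨f', ⟨hf', k, fun y hy => ?_⟩, he⟩
  obtain ⟨x, hx, rfl⟩ := (hP' y).mp hy
  rw [iterate_semiconj he (fun x hx => hf.1.mem hx) _ hx, hk x hx]

theorem IsInvariantIn.frattini_iso (hE : E.IsInvariantIn F) (hh : F.IsIso P Q h) (hPT : P ≤ T) :
    ∃ (a : Ω → Ω) (Q₀ : Subgroup Ω) (e : Ω → Ω), F.IsIso T T a ∧ E.IsIso P Q₀ e ∧
      (∀ x ∈ P, h x = a (e x)) ∧ ∀ y, y ∈ Q ↔ ∃ x ∈ Q₀, a x = y := by
  obtain ⟨φ, hφ, hr, he⟩ := id hh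
  obtain ⟨α, hα, φ₀, hφ₀, hφe⟩ := hE.2.2.2 P hPT φ hφ
  obtain ⟨a, ha, hae⟩ := isIso_of_aut hE.2.1.1 hα
  have hval : ∀ x ∈ P, h x = a (funOf φ₀ x) := fun x hx => by
    rw [← he ⟨x, hx⟩, hφe _ (E.apply_mem hφ₀ _), hae]
    exact congrArg a (funOf_apply φ₀ ⟨x, hx⟩)
  refine ⟨a, φ₀.range, funOf φ₀, ha, isIso_funOf hφ₀, hval, fun y => ⟨fun hy => ?_, ?_⟩⟩
  · obtain ⟨x, hx, rfl⟩ := hh.surj hy
    exact ⟨_, (isIso_funOf hφ₀).mem hx, (hval x hx).symm⟩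
  · rintro ⟨_, ⟨x, rfl⟩, rfl⟩
    rw [funOf_apply φ₀ x, ← hval x x.2]
    exact hh.mem x.2

theorem StronglyClosed.iso_mem (hT : F.StronglyClosed T) (hh : F.IsIso V V' h) {x : Ω} (hx : x ∈ V)
    (hxT : x ∈ T) : h x ∈ T := by
  obtain ⟨φ, hφ, -, he⟩ := hh
  rw [← he ⟨x, hx⟩]
  exact hT.apply_mem_of_mem hφ hxT

theorem StronglyClosed.iso_le (hT : F.StronglyClosed T) (hh : F.IsIso P Q h) (hPT : P ≤ T) : Q ≤ T := by
  intro y hy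
  obtain ⟨x, hx, rfl⟩ := hh.surj hy
  exact hT.iso_mem hh hx (hPT hx)

/-- Images of centric subgroups of an invariant subsystem under the ambient system are centric. -/
theorem IsInvariantIn.isCentric_of_isIso (hE : E.IsInvariantIn F) (hP : E.IsCentric P)
    (hh : F.IsIso P Q h) : E.IsCentric Q := by
  have hQT : Q ≤ T := hE.2.1.iso_le hh hP.1
  refine ⟨hQT, fun R hR => ?_⟩
  obtain ⟨φ, hφ, hr⟩ := hR
  have he : E.IsIso Q R (funOf φ) := hr ▸ isIso_funOf hφ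
  obtain ⟨a, Q₀, e, ha, he₀, -, hQ₀⟩ := hE.frattini_iso hh hP.1
  obtain ⟨a₁, ha₁, hl, hrt⟩ := ha.symm
  obtain ⟨R₀, -, -, hR₀⟩ := ha₁.restrict he.le_right
  obtain ⟨f', hf', -⟩ := hE.iso_transport ha₁ le_rfl he hQT he.le_right (P' := Q₀) (Q' := R₀) (fun y => by
    constructor
    · intro hy
      exact ⟨a y, (hQ₀ _).mpr ⟨y, hy, rfl⟩, hl y (he₀.le_right hy)⟩
    · rintro ⟨x, hx, rfl⟩
      obtain ⟨z, hz, rfl⟩ := (hQ₀ x).mp hx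
      rwa [hl z (he₀.le_right hz)]) hR₀
  have hc := hP.2 R₀ (he₀.isConj.trans hf'.isConj)
  intro c hc'
  have h1 : a₁ c ∈ R₀ := hc ⟨ha₁.mem hc'.1, ha₁.mem_centralizer he.le_right hR₀ hc'.1 hc'.2⟩
  obtain ⟨z, hz, hze⟩ := (hR₀ _).mp h1
  exact (ha₁.inj (he.le_right hz) hc'.1 hze) ▸ hz

theorem IsInvariantIn.isCentric_iff (hE : E.IsInvariantIn F) (hD : D.IsInvariantIn F) (hP : E.IsCentric P) :
    D.IsCentric P := by
  refine ⟨hP.1, fun R hR => ?_⟩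
  obtain ⟨φ, hφ, hr⟩ := hR
  have hi : F.IsIso P R (funOf φ) := hr ▸ (isIso_funOf hφ).mono hD.1
  exact (hE.isCentric_of_isIso hP hi).2 R (E.isConj_refl (hE.isCentric_of_isIso hP hi).1)

theorem IsFullyNormalized.of_invariant (hE : E.IsInvariantIn F) [Finite S] [Fact p.Prime]
    (hS : IsPGroup p S) (hF : F.IsSaturated p) (hP : F.IsFullyNormalized P) (hPT : P ≤ T) :
    E.IsFullyNormalized P := by
  refine ⟨hPT, fun R hR => ?_⟩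
  obtain ⟨φ, hφ, hr⟩ := hR
  obtain ⟨χ, hχ, hχr, ψ, hψ, hψN, hψe⟩ :=
    hF.exists_map_to_fullyNormalized hS hP (IsConj.symm ⟨φ, hE.1 P hφ, hr⟩ : F.IsConj R P)
  haveI := finite_of_le (normalizerIn_le.trans hE.2.1.1 : normalizerIn T P ≤ S)
  have hm : ∀ x : normalizerIn T R, ψ ⟨x, hE.2.1.1 x.2.1, x.2.2⟩ ∈ normalizerIn T P := fun x =>
    ⟨hE.2.1.apply_mem_of_mem hψ x.2.1, (hψN _).2⟩
  exact Nat.card_le_card_of_injective (fun x : normalizerIn T R => (⟨_, hm x⟩ : normalizerIn T P))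
    fun x y he => by
      have h1 : ψ ⟨x, _⟩ = ψ ⟨y, _⟩ := congrArg Subtype.val he
      exact Subtype.ext (congrArg Subtype.val (F.injective_of_mem hψ h1) :)

/-- Normal form of an automorphism of `p`-power order of a weakly normal subsystem. -/
theorem IsWeaklyNormalIn.pAut_form [Finite S] [Fact p.Prime] (hS : IsPGroup p S)
    (hE : E.IsWeaklyNormalIn F p) (hf : E.IsPAut p P f) :
    ∃ (P₁ : Subgroup Ω) (h g g' : Ω → Ω) (x : Ω),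
      F.IsFullyNormalized P₁ ∧ P₁ ≤ T ∧ F.IsIso P P₁ h ∧ E.IsIso P₁ P₁ g ∧ E.IsIso P₁ P₁ g' ∧
      (∀ y ∈ P₁, g' (g y) = y) ∧ (∀ y ∈ P₁, g (g' y) = y) ∧ x ∈ normalizerIn T P₁ ∧
      ∀ y ∈ P, h (f y) = g (x * g' (h y) * x⁻¹) := by
  obtain ⟨hEs, hF, hEi⟩ := hE
  have hTS : T ≤ S := hEi.2.1.1
  haveI := finite_of_le hTS
  have hT : IsPGroup p T := hS.to_le hTS
  have hPT := hf.1.le_left
  obtain ⟨P₁, ⟨φ, hφ, hr⟩, hP₁⟩ := F.exists_isFullyNormalized (hPT.trans hTS)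
  have hh : F.IsIso P P₁ (funOf φ) := hr ▸ isIso_funOf hφ
  have hP₁T : P₁ ≤ T := hEi.2.1.iso_le hh hPT
  have hP₁' : ∀ y, y ∈ P₁ ↔ ∃ x ∈ P, funOf φ x = y := fun y =>
    ⟨hh.surj, fun ⟨x, hx, he⟩ => he ▸ hh.mem hx⟩
  obtain ⟨f₁, hf₁, hf₁e⟩ := hEi.pAut_transport hh hPT hf le_rfl hP₁'
  obtain ⟨α, hα, hαe, k, hk⟩ := hf₁.toAut
  have hnE := hP₁.of_invariant hEi hS hF hP₁T
  haveI := finite_autGroup (F := E) hP₁T
  obtain ⟨-, U, hU⟩ := hEs.isFullyAutomized_of_isFullyNormalized hT hnE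
  have hp : IsPGroup p (Subgroup.zpowers (⟨α, hα⟩ : E.autGroup P₁)) := IsPGroup.of_card (n := k) (by
    rw [Nat.card_zpowers, ← Subgroup.orderOf_coe, hk])
  obtain ⟨c, hc⟩ := exists_conj_mem_sylow U hp
  have hc' : c * ⟨α, hα⟩ * c⁻¹ ∈ (U : Subgroup (E.autGroup P₁)) := hc _ (Subgroup.mem_zpowers _)
  rw [hU] at hc'
  obtain ⟨x, hx, hxN, hxe⟩ := mem_autInducedBy_iff.mp (Subgroup.mem_subgroupOf.mp hc')
  obtain ⟨g, hg, hge⟩ := isIso_of_aut hP₁T (c⁻¹).2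
  obtain ⟨g', hg', hg'e⟩ := isIso_of_aut hP₁T c.2
  refine ⟨P₁, funOf φ, g, g', x, hP₁, hP₁T, hh, hg, hg', fun y hy => ?_, fun y hy => ?_, ⟨hx, hxN⟩,
    fun y hy => ?_⟩
  · rw [← hge ⟨y, hy⟩, ← hg'e]
    simp
  · rw [← hg'e ⟨y, hy⟩, ← hge]
    simp
  · have h1 : ((α ⟨_, hh.mem hy⟩ : P₁) : Ω) = funOf φ (f y) := (hαe _).trans (hf₁e y hy)
    have h2 := hxe ((c : MulAut P₁) ⟨_, hh.mem hy⟩)
    rw [← h1]
    have h3 : g (x * g' (funOf φ y) * x⁻¹) = g (((c * ⟨α, hα⟩ * c⁻¹ : E.autGroup P₁) : MulAut P₁)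
        ((c : MulAut P₁) ⟨_, hh.mem hy⟩) : P₁) := by
      rw [h2, hg'e ⟨_, hh.mem hy⟩]
    rw [h3, ← hge]
    simp

/-- A weakly normal subsystem contains the automorphisms of `p`-power order of any other over the same subgroup. -/
theorem IsWeaklyNormalIn.pAut_mem [Finite S] [Fact p.Prime] (hS : IsPGroup p S)
    (hE : E.IsWeaklyNormalIn F p) (hD : D.IsInvariantIn F) (hf : E.IsPAut p P f) : D.IsIso P P f := by
  have hPT := hf.1.le_left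
  obtain ⟨P₁, h, g, g', x, -, hP₁T, hh, hg, hg', hl, hrt, hx, hform⟩ := hE.pAut_form hS hf
  have hcx := isIso_conj_normalizer (E := D) hP₁T hx.1 hx.2
  obtain ⟨f₁, hf₁, hf₁e⟩ := hD.iso_transport (hg.mono hE.2.2.1) hP₁T hcx le_rfl le_rfl
    (P' := P₁) (Q' := P₁) (fun y => ⟨hg.surj, fun ⟨z, hz, he⟩ => he ▸ hg.mem hz⟩)
    (fun y => ⟨hg.surj, fun ⟨z, hz, he⟩ => he ▸ hg.mem hz⟩)
  obtain ⟨h', hh', hhl, hhr⟩ := hh.symm
  obtain ⟨f₂, hf₂, hf₂e⟩ := hD.iso_transport hh' hP₁T hf₁ le_rfl le_rfl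
    (P' := P) (Q' := P) (fun y => ⟨hh'.surj, fun ⟨z, hz, he⟩ => he ▸ hh'.mem hz⟩)
    (fun y => ⟨hh'.surj, fun ⟨z, hz, he⟩ => he ▸ hh'.mem hz⟩)
  refine hf₂.congr fun y hy => ?_
  have h1 := hf₁e _ (hg'.mem (hh.mem hy))
  rw [hrt _ (hh.mem hy), ← hform y hy] at h1
  have h2 := hf₂e _ (hh.mem hy)
  rw [hhl y hy, h1, hhl _ (hf.1.mem hy)] at h2
  exact h2.symm

end Cfsg.FusionSystem
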