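import Cfsg.Agent.Lib.Fusion.PrimeResidual.Invariance
import Cfsg.Agent.Lib.Fusion.PrimeIndex

/-!
Comparing weakly normal subsystems over the same subgroup.
-/

set_option autoImplicit false
set_option linter.unusedSectionVars false

namespace Cfsg.FusionSystem

universe u
variable {Ω : Type u} [Group Ω] {S T : Subgroup Ω} {E D : FusionSystem T} {F : FusionSystem S}
  {p : ℕ} {P Q : Subgroup Ω} {b f : Ω → Ω}

theorem iso_self_image (hb : E.IsIso T T b) (h : D.IsIso T Q b) : Q = T := by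
  ext y
  constructor
  · intro hy
    obtain ⟨x, hx, rfl⟩ := h.surj hy
    exact hb.mem hx
  · intro hy
    obtain ⟨x, hx, rfl⟩ := hb.surj hy
    exact h.mem hx

/-- A fixed power prime to `p` carries the automorphisms of a saturated system to inner ones. -/
theorem IsSaturated.exists_pow_inner [Finite T] [Fact p.Prime] (hE : E.IsSaturated p) (hT : IsPGroup p T) :
    ∃ n : ℕ, ¬ p ∣ n ∧ ∀ α ∈ E.autGroup T, α ^ n ∈ autInducedBy T T := by
  haveI := finite_autGroup (F := E) (le_refl T)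
  obtain ⟨-, U, hU⟩ := hE.isFullyAutomized_of_isFullyNormalized hT isFullyNormalized_self
  haveI hn : ((autInducedBy T T).subgroupOf (E.autGroup T)).Normal := by
    refine ⟨fun a ha c => ?_⟩
    rw [Subgroup.mem_subgroupOf] at ha ⊢
    obtain ⟨t, ht, -, hte⟩ := mem_autInducedBy_iff.mp ha
    refine mem_autInducedBy_iff.mpr ⟨((c : MulAut T) ⟨t, ht⟩ : T), SetLike.coe_mem _,
      Subgroup.le_normalizer (SetLike.coe_mem _), fun y => ?_⟩
    obtain ⟨z, rfl⟩ := (c : MulAut T).surjective y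
    have h1 : (a : MulAut T) z = ⟨t, ht⟩ * z * ⟨t, ht⟩⁻¹ := Subtype.ext (hte z)
    show ((((c : MulAut T) * (a : MulAut T) * (c : MulAut T)⁻¹) ((c : MulAut T) z) : T) : Ω) = _
    rw [MulAut.mul_apply, MulAut.mul_apply, MulAut.inv_apply_self, h1, map_mul, map_mul, map_inv]
    rfl
  haveI : (U : Subgroup (E.autGroup T)).Normal := by rw [hU]; exact hn
  refine ⟨((autInducedBy T T).subgroupOf (E.autGroup T)).index, ?_, fun α hα => ?_⟩
  · have := U.not_dvd_index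
    rwa [hU] at this
  · exact Subgroup.mem_subgroupOf.mp
      (Subgroup.pow_index_mem ((autInducedBy T T).subgroupOf (E.autGroup T)) ⟨α, hα⟩)

/-- The automisers of an invariant subsystem on its subgroup are normal in those of the system. -/
theorem IsInvariantIn.conj_mem_autGroup (hE : E.IsInvariantIn F) {α β : MulAut T} (hα : α ∈ E.autGroup T)
    (hβ : β ∈ F.autGroup T) : β * α * β⁻¹ ∈ E.autGroup T := by
  obtain ⟨a, ha, hae⟩ := isIso_of_aut le_rfl hα
  obtain ⟨c, hc, hce⟩ := isIso_of_aut hE.2.1.1 hβ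
  obtain ⟨a', ha', ha'e⟩ := hE.iso_transport hc le_rfl ha le_rfl le_rfl
    (P' := T) (Q' := T) (fun y => ⟨hc.surj, fun ⟨z, hz, he⟩ => he ▸ hc.mem hz⟩)
    (fun y => ⟨hc.surj, fun ⟨z, hz, he⟩ => he ▸ hc.mem hz⟩)
  obtain ⟨φ, hφ, -, hφe⟩ := ha'
  refine E.mem_autGroup_of_map hφ fun y => ?_
  obtain ⟨x, rfl⟩ := β.surjective y
  rw [MulAut.mul_apply, MulAut.mul_apply, MulAut.inv_apply_self, hφe, hce, hce, ha'e _ x.2, hae]

/-- The maps common to two systems. -/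
def common (D E : FusionSystem T) : FusionSystem T where
  Hom P := {φ | φ ∈ D.Hom P ∧ φ ∈ E.Hom P}
  le_of_mem h := D.le_of_mem h.1
  injective_of_mem h := D.injective_of_mem h.1
  conj_mem hP hg := ⟨D.conj_mem hP hg, E.conj_mem hP hg⟩
  comp_mem := fun hφ hψ hh => ⟨D.comp_mem hφ.1 hψ.1 hh, E.comp_mem hφ.2 hψ.2 hh⟩
  inv_mem := by
    rintro P φ ⟨hφ, hφ'⟩
    obtain ⟨ψ, hψ, he⟩ := D.inv_mem hφ
    obtain ⟨χ, hχ, hχe⟩ := E.inv_mem hφ'
    refine ⟨ψ, ⟨hψ, E.mem_of_apply_eq hχ ?_⟩, he⟩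
    rintro ⟨_, x, rfl⟩
    rw [he x, hχe x]

/-- The core of one weakly normal subsystem lies in any other over the same subgroup. -/
theorem IsWeaklyNormalIn.ampleCore_le [Finite S] [Fact p.Prime] (hS : IsPGroup p S)
    (hE : E.IsWeaklyNormalIn F p) (hD : D.IsWeaklyNormalIn F p) :
    (ampleCore E p).IsSubsystemOf D := by
  haveI := finite_of_le hE.2.2.2.1.1
  suffices hK : IsAmple E p (common E D) from fun P φ hφ => (isAmple_ampleCore _ hK P hφ).2
  refine ⟨fun P φ h => h.1, fun P hP => ?_⟩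
  rw [Subgroup.map_le_iff_le_comap]
  refine (Subgroup.closure_le _).mpr fun a ha => ?_
  obtain ⟨k, hk⟩ := ha
  obtain ⟨f, hf, hfe⟩ := isPAut_of_aut hP.1 a.2 ⟨k, by rw [Subgroup.orderOf_coe, hk]⟩
  obtain ⟨φ, hφ, -, hφe⟩ := hE.pAut_mem hS hD.2.2 hf
  obtain ⟨ψ, hψ, -, hψe⟩ := hf.1
  exact (common E D).mem_autGroup_of_map (φ := φ)
    ⟨E.mem_of_apply_eq hψ fun x => (hφe x).trans (hψe x).symm, hφ⟩ fun x => (hfe x).trans (hφe x).symm

/-- A map of one weakly normal subsystem on the whole subgroup lies in another one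
once its restriction to a centric subgroup does. -/
theorem IsWeaklyNormalIn.mem_of_restrict [Finite S] [Fact p.Prime] (hS : IsPGroup p S)
    (hE : E.IsWeaklyNormalIn F p) (hD : D.IsWeaklyNormalIn F p) (hb : E.IsIso T T b) :
    ∀ P Q : Subgroup Ω, E.IsCentric P → D.IsIso P Q b → D.IsIso T T b := by
  have hTS : T ≤ S := hE.2.2.2.1.1
  haveI := finite_of_le hTS
  have hT : IsPGroup p T := hS.to_le hTS
  intro P
  induction hd : Nat.card T - Nat.card P using Nat.strong_induction_on generalizing P with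
  | _ d ih =>
  intro Q hP h
  subst hd
  rcases eq_or_lt_of_le hP.1 with rfl | hlt
  · exact iso_self_image hb h ▸ h
  set N := normalizerIn T P with hN
  have hNT : N ≤ T := normalizerIn_le
  have hPN : P ≤ N := le_normalizerIn hP.1
  haveI := finite_of_le hNT
  haveI := finite_of_le hP.1
  have hQc : D.IsCentric Q := (hE.2.2.isCentric_iff hD.2.2 hP).of_isConj h.isConj
  have hQm : ∀ y, y ∈ Q ↔ ∃ x ∈ P, b x = y := fun y => ⟨h.surj, fun ⟨x, hx, he⟩ => he ▸ h.mem hx⟩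
  have hbP : ∀ y, y ∈ P ↔ ∃ x ∈ P, (fun x : Ω => x) x = y := fun y => by simp
  obtain ⟨χ, N', hχ, hχe⟩ := (hD.1.isReceptive_of_isFullyCentralized hT hQc.isFullyCentralized).extend h
    hNT hPN (fun x hx => hx.2) (fun x hx => ⟨b x, hb.mem hx.1, fun y hy => hb.apply_conj hx.1 (hP.1 hy)⟩)
  obtain ⟨b', hb', hl, hrt⟩ := hb.symm
  have hQP : ∀ y, y ∈ P ↔ ∃ x ∈ Q, b' x = y := fun y => by
    constructor
    · intro hy
      exact ⟨b y, h.mem hy, hl y (hP.1 hy)⟩
    · rintro ⟨x, hx, rfl⟩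
      obtain ⟨z, hz, rfl⟩ := h.surj hx
      rwa [hl z (hP.1 hz)]
  have hm : ∀ x ∈ N, b' (χ x) ∈ N := fun x hx => by
    have hn : χ x ∈ Subgroup.normalizer (Q : Set Ω) :=
      hχ.mem_normalizer hPN (fun y => (hQm y).trans (exists_congr fun z =>
        and_congr_right fun hz => by rw [hχe z hz])) hx hx.2
    exact ⟨hb'.mem (hχ.le_right (hχ.mem hx)),
      hb'.mem_normalizer h.le_right hQP (hχ.le_right (hχ.mem hx)) hn⟩
  set ω : Ω → Ω := fun x => b' (χ x) with hωdef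
  obtain ⟨M, hb'M, -, -⟩ := hb'.restrict hχ.le_right
  have hω : F.IsIso N N ω := by
    have h1 : F.IsIso N M ω := (hχ.mono hD.2.2.1).comp (hb'M.mono hE.2.2.1)
    have e : M = N := Subgroup.eq_of_le_of_card_ge (fun y hy => by
      obtain ⟨x, hx, rfl⟩ := h1.surj hy
      exact hm x hx) h1.card_eq.le
    exact e ▸ h1
  have hfix : ∀ x ∈ P, ω x = x := fun x hx => by rw [hωdef]; show b' (χ x) = x; rw [hχe x hx, hl x (hP.1 hx)]
  -- `ω` has `p`-power order
  obtain ⟨j, hj⟩ := (IsPGroup.iff_card (p := p) (G := T)).mp hT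
  have hωp : ∀ x ∈ N, ω^[p ^ j] x = x := by
    intro x hx
    have hcen : x⁻¹ * ω x ∈ centralizerIn T P := by
      refine ⟨T.mul_mem (T.inv_mem hx.1) (hNT (hm x hx)), Subgroup.mem_centralizer_iff.mpr fun y hy => ?_⟩
      have h1 := hω.apply_conj hx (hPN hy)
      rw [hfix y hy, hfix _ ((Subgroup.mem_normalizer_iff.mp hx.2 y).mp hy)] at h1
      calc y * (x⁻¹ * ω x) = x⁻¹ * (x * y * x⁻¹) * ω x := by group
        _ = x⁻¹ * (ω x * y * (ω x)⁻¹) * ω x := by rw [h1]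
        _ = x⁻¹ * ω x * y := by group
    have hz : x⁻¹ * ω x ∈ P := hP.2 P (E.isConj_refl hP.1) hcen
    have hit : ∀ k : ℕ, ω^[k] x = x * (x⁻¹ * ω x) ^ k := by
      intro k
      induction k with
      | zero => simp
      | succ k ihk =>
        rw [Function.iterate_succ_apply', ihk, hω.apply_mul hx (N.pow_mem (hPN hz) k),
          hfix _ (P.pow_mem hz k), pow_succ', ← mul_assoc (x) (x⁻¹ * ω x)]
        group
    rw [hit, ← hj]
    have h3 : (⟨x⁻¹ * ω x, hP.1 hz⟩ : T) ^ Nat.card T = 1 := pow_card_eq_one'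
    rw [show (x⁻¹ * ω x) ^ Nat.card T = 1 from congrArg Subtype.val h3, mul_one]
  obtain ⟨α, hα, hαe, hαp⟩ := IsPAut.toAut (E := F) (p := p) (P := N) (f := ω) ⟨hω, j, hωp⟩
  -- a power prime to `p` lies in `E`
  obtain ⟨ψ, hψ, hψr, hψe⟩ := id hχ
  obtain ⟨γ₀, hγ₀, φ₀, hφ₀, hfac⟩ :=
    (hD.1.hasPrimeToPIndexIn_of_centric hT (E := ampleCore D p) (fun _ _ h => h.1)
      fun _ hP => closure_le_ampleCore hP).2.1 N ψ hψ
  obtain ⟨a, ha, hae⟩ := isIso_of_aut le_rfl hγ₀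
  obtain ⟨bα, hbα, hbαe⟩ := hb'.toAut
  obtain ⟨n, hn, hinn⟩ := hD.1.exists_pow_inner hT
  have hγpow : (bα * γ₀) ^ n ∈ E.autGroup T := by
    have hk : ∀ k : ℕ, ∃ μ ∈ E.autGroup T, (bα * γ₀) ^ k = μ * γ₀ ^ k := by
      intro k
      induction k with
      | zero => exact ⟨1, one_mem _, by simp⟩
      | succ k ihk =>
        obtain ⟨μ, hμ, hke⟩ := ihk
        refine ⟨μ * (γ₀ ^ k * bα * (γ₀ ^ k)⁻¹), mul_mem hμ (hE.2.2.conj_mem_autGroup hbα
          (pow_mem (IsSubsystemOf.isIso_autGroup hD.2.2.1 le_rfl hγ₀) k)), ?_⟩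
        rw [pow_succ, hke, pow_succ]
        group
    obtain ⟨μ, hμ, hke⟩ := hk n
    rw [hke]
    exact mul_mem hμ (autInducedBy_le_autGroup le_rfl (hinn γ₀ hγ₀))
  set γ : Ω → Ω := fun x => b' (a x) with hγdef
  have hγ : F.IsIso T T γ := (ha.mono hD.2.2.1).comp (hb'.mono hE.2.2.1)
  obtain ⟨γ', hγ', hγl, hγr⟩ := hγ.symm
  have hγe : ∀ x : T, (((bα * γ₀) x : T) : Ω) = γ x := fun x => by
    rw [MulAut.mul_apply, hbαe, hae]
  set e₀ : Ω → Ω := funOf φ₀ with he₀def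
  have he₀ : E.IsIso N φ₀.range e₀ :=
    (isIso_funOf hφ₀).mono (IsWeaklyNormalIn.ampleCore_le hS hD hE)
  have hω_fac : ∀ x ∈ N, ω x = γ (e₀ x) := fun x hx => by
    show b' (χ x) = b' (a (funOf φ₀ x))
    rw [← hψe ⟨x, hx⟩, hfac _ ((ampleCore D p).apply_mem hφ₀ _), hae]
    exact congrArg (fun z => b' (a z)) (funOf_apply φ₀ ⟨x, hx⟩)
  have hrange : ∀ y, y ∈ φ₀.range ↔ ∃ x ∈ N, γ' x = y := fun y => by
    constructor
    · intro hy
      obtain ⟨x, hx, rfl⟩ := he₀.surj hy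
      exact ⟨ω x, hω.mem hx, by rw [hω_fac x hx, hγl _ (he₀.le_right (he₀.mem hx))]⟩
    · rintro ⟨x, hx, rfl⟩
      obtain ⟨z, hz, rfl⟩ := hω.surj hx
      rw [hω_fac z hz, hγl _ (he₀.le_right (he₀.mem hz))]
      exact he₀.mem hz
  have hpow : ∀ k : ℕ, ∃ (R : Subgroup Ω) (e : Ω → Ω), E.IsIso N R e ∧ ∀ x ∈ N, ω^[k] x = γ^[k] (e x) := by
    intro k
    induction k with
    | zero => exact ⟨N, fun x => x, IsIso.refl _ hNT, fun x _ => rfl⟩
    | succ k ihk =>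
      obtain ⟨R, e, he, hke⟩ := ihk
      obtain ⟨R', -, -, hR'⟩ := hγ'.restrict he.le_right
      obtain ⟨e', he', he'e⟩ := hE.2.2.iso_transport hγ' le_rfl he hNT he.le_right hrange hR'
      refine ⟨R', fun x => e' (e₀ x), he₀.comp he', fun x hx => ?_⟩
      rw [Function.iterate_succ_apply, hke _ (hω.mem hx), Function.iterate_succ_apply]
      congr 1
      show e (ω x) = γ (e' (e₀ x))
      conv_rhs => rw [← hγl _ (he₀.le_right (he₀.mem hx)), ← hω_fac x hx, he'e _ (hω.mem hx),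
        hγr _ (he.le_right (he.mem (hω.mem hx)))]
  obtain ⟨R, e, he, hne⟩ := hpow n
  obtain ⟨c, hc, hce⟩ := isIso_of_aut le_rfl hγpow
  have hαn : α ^ n ∈ E.autGroup N := by
    obtain ⟨R'', hcR, -, -⟩ := hc.restrict he.le_right
    obtain ⟨φ, hφ, -, hφe⟩ := he.comp hcR
    refine E.mem_autGroup_of_map hφ fun x => ?_
    rw [coe_pow_apply hαe, hne x x.2, hφe]
    show _ = c (e x)
    rw [← hce ⟨e x, he.le_right (he.mem x.2)⟩, coe_pow_apply hγe]
  obtain ⟨k, hk⟩ := hαp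
  obtain ⟨m, hm'⟩ := exists_pow_eq_self_of_coprime (x := α) (n := n)
    (by rw [hk]; exact (((Nat.Prime.coprime_iff_not_dvd Fact.out).mpr hn).symm.pow_right k))
  obtain ⟨φ, hφ, -, hφe⟩ := E.exists_map_of_mem_autGroup hNT (hm' ▸ pow_mem hαn m : α ∈ E.autGroup N)
  obtain ⟨z, hzP, -, hz⟩ := exists_conj_of_eqOn hT hE.1 hP hPN (E.id_mem hNT) hφ
    (fun x hx => by rw [hφe, hαe, hfix _ hx]; rfl)
  obtain ⟨N'', hbN, -, -⟩ := hb.restrict hNT
  have hzinv : (z : Ω)⁻¹ ∈ N := N.inv_mem z.2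
  have hfinal : D.IsIso N N' b := by
    refine ((isIso_conj_normalizer (E := D) hNT (hNT hzinv) (Subgroup.le_normalizer hzinv)).comp hχ).congr
      fun x hx => ?_
    set w : N := ⟨(z : Ω)⁻¹ * x * (z : Ω)⁻¹⁻¹, N.mul_mem (N.mul_mem hzinv hx) (N.inv_mem hzinv)⟩ with hw
    have h1 : ω w = x := by
      rw [← hαe, ← hφe, hz]
      show (z : Ω) * ((z : Ω)⁻¹ * x * (z : Ω)⁻¹⁻¹) * (z : Ω)⁻¹ = x
      group
    show b x = χ w
    rw [← hrt (χ w) (hχ.le_right (hχ.mem w.2))]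
    exact congrArg b h1.symm
  refine ih _ ?_ N rfl N' (isCentric_of_le hP hPN hNT) hfinal
  have h1 : Nat.card P < Nat.card N := card_lt_of_lt (lt_normalizerIn hT hlt)
  have h2 : Nat.card N ≤ Nat.card T :=
    Nat.card_le_card_of_injective (Subgroup.inclusion hNT) (Subgroup.inclusion_injective _)
  omega

end Cfsg.FusionSystem
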