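import Cfsg.Agent.Lib.Fusion.PrimeResidual.CentralizerLift

/-!
An automorphism of `P C_S(T)` of order prime to `p` fixing the centric subgroup `P` extends over `T`, fixing `T`.
-/

set_option autoImplicit false
set_option linter.unusedSectionVars false

namespace Cfsg.FusionSystem

universe u
variable {Ω : Type u} [Group Ω] {S T : Subgroup Ω} {E : FusionSystem T} {F : FusionSystem S}
  {p : ℕ} {P : Subgroup Ω}

/-- A fixed point set of a `p`-group element acting by translation. -/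
theorem eq_one_of_pow_coprime {G : Type*} [Group G] {z : G} {a k : ℕ} (h1 : z ^ a = 1) (h2 : z ^ k = 1)
    (hc : Nat.Coprime a k) : z = 1 := by
  have h : z ^ Nat.gcd a k = 1 := pow_gcd_eq_one.mpr ⟨h1, h2⟩
  rwa [hc.gcd_eq_one, pow_one] at h

theorem IsWeaklyNormalIn.fixing_extension [Finite S] [Fact p.Prime] (hS : IsPGroup p S)
    (hE : E.IsWeaklyNormalIn F p) :
    ∀ (P : Subgroup Ω), E.IsCentric P → ∀ (γ : MulAut ↥(P ⊔ centralizerIn S T)),
      γ ∈ F.autGroup (P ⊔ centralizerIn S T) → (∀ x : ↥(P ⊔ centralizerIn S T), (x : Ω) ∈ P → γ x = x) → ¬ p ∣ orderOf γ →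
      ∃ η : Ω → Ω, F.IsIso (T ⊔ centralizerIn S T) (T ⊔ centralizerIn S T) η ∧ (∀ x ∈ T, η x = x) ∧
        ∀ x : ↥(P ⊔ centralizerIn S T), η x = γ x := by
  obtain ⟨-, hF, hEi⟩ := id hE
  have hTS := hEi.2.1.1
  haveI := finite_of_le hTS
  have hT : IsPGroup p T := hS.to_le hTS
  obtain ⟨jT, hjT⟩ := (IsPGroup.iff_card (p := p) (G := T)).mp hT
  have hTexp : ∀ z ∈ T, z ^ (p ^ jT) = 1 := fun z hz => by
    have h := pow_card_eq_one' (x := (⟨z, hz⟩ : T))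
    rw [hjT] at h
    exact congrArg Subtype.val h
  intro P
  induction hd : Nat.card T - Nat.card P using Nat.strong_induction_on generalizing P with
  | _ d ih =>
  intro hP
  subst hd
  set C := centralizerIn S T with hC
  set V := P ⊔ C with hV
  intro γ hγ hfix hord
  have hPT := hP.1
  have hPV : P ≤ V := le_sup_left
  have hCV : C ≤ V := le_sup_right
  have hVS : V ≤ S := sup_le (hPT.trans hTS) centralizerIn_le
  rcases eq_or_lt_of_le hPT with rfl | hlt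
  · obtain ⟨η, hη, hηe⟩ := isIso_of_aut hVS hγ
    refine ⟨η, hη, fun x hx => ?_, fun x => (hηe x).symm⟩
    rw [← hηe ⟨x, hPV hx⟩, hfix _ hx]
  set N := normalizerIn T P with hN
  have hNT : N ≤ T := normalizerIn_le
  have hPN : P ≤ N := le_normalizerIn hPT
  have hCn : ∀ c ∈ C, ∀ y ∈ T, c * y * c⁻¹ = y := fun c hc y hy => by
    rw [← Subgroup.mem_centralizer_iff.mp hc.2 y hy, mul_inv_cancel_right]
  have hNV : ∀ g ∈ N, g ∈ Subgroup.normalizer (V : Set Ω) := fun g hg => by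
    refine Subgroup.normalizer_inf_normalizer_le_normalizer_sup P C ⟨hg.2, Subgroup.mem_normalizer_iff.mpr fun c => ?_⟩
    constructor
    · intro hc
      rwa [Subgroup.mem_centralizer_iff.mp hc.2 g hg.1, mul_inv_cancel_right]
    · intro hc
      have h1 := Subgroup.mem_centralizer_iff.mp hc.2 g hg.1
      rw [show g * c * g⁻¹ * g = g * c by group] at h1
      have h2 : g * c * g⁻¹ = c := mul_left_cancel h1
      rwa [h2] at hc
  haveI := finite_of_le hVS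
  haveI := finite_autGroup (F := F) hVS
  haveI : Finite (MulAut V) := finite_mulAut_of_le hVS
  -- the `p`-group normalised by `γ`
  let Wset : Set (MulAut V) := {α | α ∈ F.autGroup V ∧
    (∃ g ∈ N, ∀ y : V, (y : Ω) ∈ P → ((α y : V) : Ω) = g * y * g⁻¹) ∧
    ∀ c : V, (c : Ω) ∈ C → ((c⁻¹ * α c : V) : Ω) ∈ P}
  have hWmap : ∀ α ∈ Wset, ∀ y : V, (y : Ω) ∈ P → ((α y : V) : Ω) ∈ P := by
    rintro α ⟨-, ⟨g, hg, hge⟩, -⟩ y hy
    rw [hge y hy]
    exact (Subgroup.mem_normalizer_iff.mp hg.2 _).mp hy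
  have hWmul : ∀ α ∈ Wset, ∀ β ∈ Wset, α * β ∈ Wset := by
    intro α hα β hβ
    obtain ⟨hαF, ⟨g, hg, hge⟩, hαc⟩ := id hα
    obtain ⟨hβF, ⟨g', hg', hge'⟩, hβc⟩ := id hβ
    refine ⟨mul_mem hαF hβF, ⟨g * g', mul_mem hg hg', fun y hy => ?_⟩, fun c hc => ?_⟩
    · rw [MulAut.mul_apply, hge _ (hWmap β hβ y hy), hge' y hy]
      group
    · have e : c⁻¹ * (α * β) c = (c⁻¹ * α c) * α (c⁻¹ * β c) := by
        rw [MulAut.mul_apply, map_mul, map_inv]
        group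
      rw [e, Subgroup.coe_mul]
      exact P.mul_mem (hαc c hc) (hWmap α hα _ (hβc c hc))
  have hW1 : (1 : MulAut V) ∈ Wset :=
    ⟨one_mem _, ⟨1, one_mem _, fun y _ => by simp⟩, fun c _ => by simp⟩
  have hWpow : ∀ α ∈ Wset, ∀ k : ℕ, α ^ k ∈ Wset := fun α hα k => by
    induction k with
    | zero => simpa using hW1
    | succ k ihk => rw [pow_succ]; exact hWmul _ ihk _ hα
  let W : Subgroup (MulAut V) :=
    { carrier := Wset
      one_mem' := hW1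
      mul_mem' := fun {a b} ha hb => hWmul a ha b hb
      inv_mem' := fun {a} ha => by
        have : a⁻¹ = a ^ (orderOf a - 1) := inv_eq_of_mul_eq_one_right (by
          rw [← pow_succ', Nat.sub_add_cancel (orderOf_pos a), pow_orderOf_eq_one])
        rw [this]
        exact hWpow a ha _ }
  have hWp : IsPGroup p W := by
    refine IsPGroup.iff_orderOf.mpr fun ⟨α, hα⟩ => ?_
    obtain ⟨-, ⟨g, hg, hge⟩, -⟩ := id hα
    have hk : ∀ (k : ℕ) (y : V), (y : Ω) ∈ P → ((((α ^ k) y : V)) : Ω) = g ^ k * y * (g ^ k)⁻¹ := by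
      intro k
      induction k with
      | zero => intro y _; simp
      | succ k ihk =>
        intro y hy
        rw [pow_succ, MulAut.mul_apply, ihk _ (hWmap α hα y hy), hge y hy, pow_succ]
        group
    set α₁ := α ^ (p ^ jT) with hα₁
    have hα₁P : ∀ y : V, (y : Ω) ∈ P → α₁ y = y := fun y hy => Subtype.ext (by
      rw [hα₁, hk _ y hy, hTexp g (hNT hg)]
      simp)
    have hα₁C : ∀ c : V, (c : Ω) ∈ C → (α₁ ^ (p ^ jT)) c = c := fun c hc => by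
      have hz : ((c⁻¹ * α₁ c : V) : Ω) ∈ P := (hWpow α hα (p ^ jT)).2.2 c hc
      have hit : ∀ k : ℕ, (α₁ ^ k) c = c * (c⁻¹ * α₁ c) ^ k := by
        intro k
        induction k with
        | zero => simp
        | succ k ihk =>
          rw [pow_succ', MulAut.mul_apply, ihk, map_mul, map_pow, hα₁P _ hz, pow_succ', ← mul_assoc,
            mul_inv_cancel_left]
      rw [hit]
      have : (c⁻¹ * α₁ c) ^ (p ^ jT) = 1 := Subtype.ext (by
        rw [SubmonoidClass.coe_pow]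
        exact hTexp _ (hPT hz))
      rw [this, mul_one]
    have hone : α ^ (p ^ (jT + jT)) = 1 := by
      rw [pow_add, pow_mul, ← hα₁]
      refine MulEquiv.ext fun v => ?_
      obtain ⟨y, hy, c, hc, he⟩ := (mem_sup_centralizerIn hPT).mp v.2
      have hv : v = ⟨y, hPV hy⟩ * ⟨c, hCV hc⟩ := Subtype.ext he
      rw [hv, map_mul, hα₁C ⟨c, hCV hc⟩ hc]
      have : (α₁ ^ (p ^ jT)) ⟨y, hPV hy⟩ = ⟨y, hPV hy⟩ := by
        generalize p ^ jT = m
        induction m with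
        | zero => simp
        | succ m ihm => rw [pow_succ, MulAut.mul_apply, hα₁P _ hy, ihm]
      rw [this]
      rfl
    obtain ⟨i, -, hi⟩ := (Nat.dvd_prime_pow Fact.out).mp (orderOf_dvd_of_pow_eq_one hone)
    exact ⟨i, by rw [← Subgroup.orderOf_coe]; exact hi⟩
  have hγP : ∀ y : V, (y : Ω) ∈ P → γ⁻¹ y = y := fun y hy => by
    conv_lhs => rw [← hfix y hy]
    rw [MulAut.inv_apply_self]
  have hWγ : ∀ α ∈ Wset, γ * α * γ⁻¹ ∈ Wset := by
    intro α hα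
    obtain ⟨hαF, ⟨g, hg, hge⟩, hαc⟩ := id hα
    refine ⟨mul_mem (mul_mem hγ hαF) (InvMemClass.inv_mem hγ), ⟨g, hg, fun y hy => ?_⟩, fun c hc => ?_⟩
    · rw [MulAut.mul_apply, MulAut.mul_apply, hγP y hy, hfix _ (hWmap α hα y hy), hge y hy]
    · obtain ⟨u, hu, c₀, hc₀, he⟩ := (mem_sup_centralizerIn hPT).mp ((γ⁻¹ c : V)).2
      set u' : V := ⟨u, hPV hu⟩ with hu'
      set c' : V := ⟨c₀, hCV hc₀⟩ with hc'
      have hcu : γ⁻¹ c = u' * c' := Subtype.ext he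
      have hcu' : c = u' * γ c' := by
        rw [← hfix u' hu, ← map_mul, ← hcu, MulAut.apply_inv_self]
      have hαu : ((u'⁻¹ * α u' : V) : Ω) ∈ P := by
        rw [Subgroup.coe_mul, Subgroup.coe_inv]
        exact P.mul_mem (P.inv_mem hu) (hWmap α hα u' hu)
      have hval : (γ * α * γ⁻¹) c = α u' * γ c' * (c'⁻¹ * α c') := by
        rw [MulAut.mul_apply, MulAut.mul_apply, hcu, map_mul,
          show α u' * α c' = α u' * c' * (c'⁻¹ * α c') by group, map_mul, map_mul,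
          hfix _ (hWmap α hα u' hu), hfix _ (hαc c' hc₀)]
      rw [hval, hcu', show (u' * γ c')⁻¹ * (α u' * γ c' * (c'⁻¹ * α c')) =
        ((γ c')⁻¹ * (u'⁻¹ * α u') * γ c') * (c'⁻¹ * α c') by group, Subgroup.coe_mul]
      refine P.mul_mem ?_ (hαc c' hc₀)
      rw [Subgroup.coe_mul, Subgroup.coe_mul, Subgroup.coe_inv]
      refine (Subgroup.mem_normalizer_iff''.mp ?_ _).mp hαu
      obtain ⟨u₂, hu₂, c₂, hc₂, he₂⟩ := (mem_sup_centralizerIn hPT).mp (γ c').2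
      rw [he₂]
      refine mul_mem (Subgroup.le_normalizer hu₂) (Subgroup.mem_normalizer_iff.mpr fun y => ⟨fun hy => ?_, fun hy => ?_⟩)
      · rwa [hCn c₂ hc₂ y (hPT hy)]
      · have h1 := hCn c₂⁻¹ (C.inv_mem hc₂) _ (hPT hy)
        rw [show c₂⁻¹ * (c₂ * y * c₂⁻¹) * c₂⁻¹⁻¹ = y by group] at h1
        rwa [h1]
  -- move to a fully normalized subgroup so that `W` is induced from `S`
  obtain ⟨R, ⟨φ, hφ, hr⟩, hR⟩ := F.exists_isFullyNormalized hVS
  haveI := finite_autGroup (F := F) hR.1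
  obtain ⟨-, U, hU⟩ := hF.isFullyAutomized_of_isFullyNormalized hS hR
  let i := F.isoOf hφ hr
  let Wi : W →* F.autGroup R :=
    { toFun := fun α => ⟨MulAut.congr i (α : MulAut V), (autGroup_map_congr hφ hr).le ⟨_, α.2.1, rfl⟩⟩
      map_one' := Subtype.ext (map_one (MulAut.congr i))
      map_mul' := fun a b => Subtype.ext (map_mul (MulAut.congr i) _ _) }
  obtain ⟨a, ha⟩ := exists_conj_mem_sylow U (hWp.of_surjective Wi.rangeRestrict Wi.rangeRestrict_surjective)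
  obtain ⟨af, haf, hafe⟩ := isIso_of_aut hR.1 a.2
  set h : Ω → Ω := fun v => af (funOf φ v) with hhdef
  have hh : F.IsIso V R h := (hr ▸ isIso_funOf hφ : F.IsIso V R (funOf φ)).comp haf
  have hcoe : ∀ v : V, (((a : MulAut R) (i v) : R) : Ω) = h v := fun v => by
    rw [hafe]
    exact congrArg af ((F.coe_isoOf hφ hr v).trans (funOf_apply φ v))
  have hWh : ∀ α ∈ Wset, ∃ k ∈ S, ∀ v : V, h (α v : V) = k * h v * k⁻¹ := by
    intro α hα
    have h1 := ha (Wi ⟨α, hα⟩) ⟨_, rfl⟩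
    rw [hU] at h1
    obtain ⟨k, hk, -, hke⟩ := mem_autInducedBy_iff.mp (Subgroup.mem_subgroupOf.mp h1)
    refine ⟨k, hk, fun v => ?_⟩
    rw [← hcoe v, ← hcoe (α v), ← hke ((a : MulAut R) (i v))]
    show _ = (((a : MulAut R) (MulAut.congr i α (((a : MulAut R)⁻¹) ((a : MulAut R) (i v)))) : R) : Ω)
    rw [MulAut.inv_apply_self]
    show _ = (((a : MulAut R) (i (α (i.symm (i v)))) : R) : Ω)
    rw [MulEquiv.symm_apply_apply]
  set N' := N ⊔ C with hN'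
  have hN'S : N' ≤ S := sup_le (hNT.trans hTS) centralizerIn_le
  haveI := finite_of_le hN'S
  have hCnV : C ≤ Subgroup.normalizer (V : Set Ω) := hCV.trans Subgroup.le_normalizer
  have hN'n : N' ≤ Subgroup.normalizer (V : Set Ω) := sup_le hNV hCnV
  have hVN' : V ≤ N' := sup_le_sup_right hPN C
  have hcg : ∀ g ∈ N, ∃ cg : MulAut V, cg ∈ Wset ∧ ∀ v : V, ((cg v : V) : Ω) = g * v * g⁻¹ := by
    intro g hg
    refine ⟨V.normalizerMonoidHom ⟨g, hNV g hg⟩, ⟨autInducedBy_le_autGroup hVS (mem_autInducedBy_iff.mpr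
      ⟨g, hTS (hNT hg), hNV g hg, fun _ => rfl⟩), ⟨g, hg, fun y _ => rfl⟩, fun c hc => ?_⟩, fun v => rfl⟩
    show (c : Ω)⁻¹ * (g * c * g⁻¹) ∈ P
    rw [Subgroup.mem_centralizer_iff.mp hc.2 g (hNT hg), mul_inv_cancel_right, inv_mul_cancel]
    exact P.one_mem
  have hrec := hF.isReceptive_of_isFullyNormalized hS hR
  obtain ⟨h₁, M, hh₁, hh₁e⟩ := hrec.extend hh hN'S hVN' hN'n fun w hw => by
    obtain ⟨g, hg, c, hc, rfl⟩ := (mem_sup_centralizerIn hNT).mp hw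
    obtain ⟨cg, hcgW, hcge⟩ := hcg g hg
    obtain ⟨k, hk, hke⟩ := hWh cg hcgW
    refine ⟨k * h c, S.mul_mem hk (hh.le_right (hh.mem (hCV hc))), fun v hv => ?_⟩
    have hcv : c * v * c⁻¹ ∈ V := V.mul_mem (V.mul_mem (hCV hc) hv) (V.inv_mem (hCV hc))
    rw [show g * c * v * (g * c)⁻¹ = g * (c * v * c⁻¹) * g⁻¹ by group]
    have h2 := hke ⟨_, hcv⟩
    rw [hcge] at h2
    rw [h2, hh.apply_conj (hCV hc) hv]
    group
  obtain ⟨γf, hγf, hγfe⟩ := isIso_of_aut hVS hγ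
  obtain ⟨h', hh', hl, hrt⟩ := hh.symm
  have hγR : F.IsIso R R (fun r => h (γf (h' r))) := (hh'.comp hγf).comp hh
  have hRm : ∀ y, y ∈ R ↔ ∃ v ∈ V, h₁ v = y := fun y => ⟨fun hy => by
    obtain ⟨v, hv, rfl⟩ := hh.surj hy
    exact ⟨v, hv, hh₁e v hv⟩, fun ⟨v, hv, he⟩ => he ▸ (hh₁e v hv) ▸ hh.mem hv⟩
  have hRM : R ≤ M := fun y hy => by
    obtain ⟨v, hv, rfl⟩ := (hRm y).mp hy
    exact hh₁.mem (hVN' hv)
  have hMn : M ≤ Subgroup.normalizer (R : Set Ω) := fun m hm => by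
    obtain ⟨w, hw, rfl⟩ := hh₁.surj hm
    exact hh₁.mem_normalizer hVN' hRm hw (hN'n hw)
  obtain ⟨γ₂, M₂, hγ₂, hγ₂e⟩ := hrec.extend hγR hh₁.le_right hRM hMn fun m hm => by
    obtain ⟨w, hw, rfl⟩ := hh₁.surj hm
    obtain ⟨g, hg, c, hc, rfl⟩ := (mem_sup_centralizerIn hNT).mp hw
    obtain ⟨cg, hcgW, hcge⟩ := hcg g hg
    obtain ⟨k, hk, hke⟩ := hWh _ (hWγ cg hcgW)
    refine ⟨k * h (γf c), S.mul_mem hk (hh.le_right (hh.mem (hγf.mem (hCV hc)))), fun r hr => ?_⟩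
    obtain ⟨v, hv, rfl⟩ := hh.surj hr
    have hcv : c * v * c⁻¹ ∈ V := V.mul_mem (V.mul_mem (hCV hc) hv) (V.inv_mem (hCV hc))
    have hgcv : g * (c * v * c⁻¹) * g⁻¹ ∈ V := (Subgroup.mem_normalizer_iff.mp (hNV g hg) _).mp hcv
    have h3 : h₁ (g * c) * h v * (h₁ (g * c))⁻¹ = h (g * (c * v * c⁻¹) * g⁻¹) := by
      rw [← hh₁e v hv, ← hh₁e _ hgcv, ← hh₁.apply_conj hw (hVN' hv)]
      congr 1
      group
    show h (γf (h' (h₁ (g * c) * h v * (h₁ (g * c))⁻¹))) = k * h (γf c) * h (γf (h' (h v))) * (k * h (γf c))⁻¹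
    rw [h3, hl _ hgcv, hl v hv]
    have h4 := hke ⟨γf (c * v * c⁻¹), hγf.mem hcv⟩
    have h5 : ((γ * cg * γ⁻¹) ⟨γf (c * v * c⁻¹), hγf.mem hcv⟩ : V) = γ (cg ⟨_, hcv⟩) := by
      rw [show (⟨γf (c * v * c⁻¹), hγf.mem hcv⟩ : V) = γ ⟨_, hcv⟩ from Subtype.ext (hγfe ⟨_, hcv⟩).symm,
        MulAut.mul_apply, MulAut.mul_apply, MulAut.inv_apply_self]
    rw [h5, hγfe, hcge] at h4
    change h (γf (g * (c * v * c⁻¹) * g⁻¹)) = k * h (γf (c * v * c⁻¹)) * k⁻¹ at h4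
    rw [h4, hγf.apply_conj (hCV hc) hv, hh.apply_conj (hγf.mem (hCV hc)) (hγf.mem hv)]
    group
  -- pull back to `N C`
  obtain ⟨h₁', hh₁', hl₁, hr₁⟩ := hh₁.symm
  have hM₂ : M₂ ≤ M := fun y hy => by
    obtain ⟨m, hm, rfl⟩ := hγ₂.surj hy
    obtain ⟨w, hw, rfl⟩ := hh₁.surj hm
    obtain ⟨g, hg, c, hc, rfl⟩ := (mem_sup_centralizerIn hNT).mp hw
    have hgN : g ∈ N' := Subgroup.mem_sup_left hg
    have hcN : c ∈ N' := Subgroup.mem_sup_right hc
    rw [hh₁.apply_mul hgN hcN, hγ₂.apply_mul (hh₁.mem hgN) (hh₁.mem hcN)]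
    refine M.mul_mem ?_ ?_
    · obtain ⟨P₁, hPP₁, -, hP₁⟩ := hh₁.restrict (hPN.trans le_sup_left)
      have hP₁c : E.IsCentric P₁ := hEi.isCentric_of_isIso hP hPP₁
      have hgT : h₁ g ∈ T := hEi.2.1.iso_mem hh₁ hgN (hNT hg)
      have hfixP₁ : ∀ y ∈ P, γ₂ (h₁ y) = h₁ y := fun y hy => by
        have hy' := hh₁e y (hPV hy)
        rw [hy', hγ₂e _ (hh.mem (hPV hy))]
        show h (γf (h' (h y))) = h y
        rw [hl y (hPV hy), ← hγfe ⟨y, hPV hy⟩, hfix _ hy]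
      have hu : (h₁ g)⁻¹ * γ₂ (h₁ g) ∈ P₁ := by
        refine hP₁c.2 P₁ (E.isConj_refl hP₁c.1) ⟨T.mul_mem (T.inv_mem hgT)
          (hEi.2.1.iso_mem hγ₂ (hh₁.mem hgN) hgT), Subgroup.mem_centralizer_iff.mpr fun y hy => ?_⟩
        obtain ⟨x, hx, rfl⟩ := (hP₁ y).mp hy
        have hxN : x ∈ N' := Subgroup.mem_sup_left (hPN hx)
        have hgx : g * x * g⁻¹ ∈ P := (Subgroup.mem_normalizer_iff.mp hg.2 x).mp hx
        have h1 := hγ₂.apply_conj (hh₁.mem hgN) (hh₁.mem hxN)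
        rw [← hh₁.apply_conj hgN hxN, hfixP₁ _ hgx, hfixP₁ x hx, hh₁.apply_conj hgN hxN] at h1
        calc h₁ x * ((h₁ g)⁻¹ * γ₂ (h₁ g)) = (h₁ g)⁻¹ * (h₁ g * h₁ x * (h₁ g)⁻¹) * γ₂ (h₁ g) := by group
          _ = (h₁ g)⁻¹ * (γ₂ (h₁ g) * h₁ x * (γ₂ (h₁ g))⁻¹) * γ₂ (h₁ g) := by rw [h1]
          _ = (h₁ g)⁻¹ * γ₂ (h₁ g) * h₁ x := by group
      obtain ⟨x, hx, hxe⟩ := (hP₁ _).mp hu
      rw [show γ₂ (h₁ g) = h₁ g * ((h₁ g)⁻¹ * γ₂ (h₁ g)) by group, ← hxe]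
      exact M.mul_mem (hh₁.mem hgN) (hh₁.mem (Subgroup.mem_sup_left (hPN hx)))
    · rw [hh₁e c (hCV hc), hγ₂e _ (hh.mem (hCV hc))]
      show h (γf (h' (h c))) ∈ M
      rw [hl c (hCV hc)]
      exact hRM (hh.mem (hγf.mem (hCV hc)))
  obtain ⟨N₂, hres, -, -⟩ := hh₁'.restrict hM₂
  have hδ : F.IsIso N' N₂ (fun w => h₁' (γ₂ (h₁ w))) := (hh₁.comp hγ₂).comp hres
  have hN₂ : N₂ = N' := hδ.eq_of_le hN'S (fun y hy => by
    obtain ⟨w, hw, rfl⟩ := hδ.surj hy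
    exact hh₁'.mem (hM₂ (hγ₂.mem (hh₁.mem hw)))) le_rfl
  rw [hN₂] at hδ
  obtain ⟨δ, hδF, hδe⟩ := hδ.toAut
  have hδV : ∀ v : V, δ (Subgroup.inclusion hVN' v) = Subgroup.inclusion hVN' (γ v) := fun v => Subtype.ext (by
    rw [hδe]
    show h₁' (γ₂ (h₁ (v : Ω))) = ((γ v : V) : Ω)
    rw [hh₁e _ v.2, hγ₂e _ (hh.mem v.2)]
    show h₁' (h (γf (h' (h (v : Ω))))) = _
    rw [hl _ v.2, ← hγfe, ← hh₁e _ (γ v).2, hl₁ _ (hVN' (γ v).2)])
  have hδVpow : ∀ (k : ℕ) (v : V), (δ ^ k) (Subgroup.inclusion hVN' v) = Subgroup.inclusion hVN' ((γ ^ k) v) := by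
    intro k
    induction k with
    | zero => intro v; simp
    | succ k ihk => intro v; rw [pow_succ', MulAut.mul_apply, ihk, hδV, pow_succ', MulAut.mul_apply]
  haveI : Finite (MulAut N') := finite_mulAut_of_le hN'S
  -- the part of order prime to `p`
  obtain ⟨e, c', hc', hoc⟩ := Nat.exists_eq_pow_mul_and_not_dvd (orderOf_pos δ).ne' p (Fact.out : p.Prime).ne_one
  have hcop : (orderOf γ).Coprime (p ^ e) :=
    ((Nat.Prime.coprime_iff_not_dvd Fact.out).mpr hord).symm.pow_right e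
  obtain ⟨q, hq1, hq2⟩ := Nat.chineseRemainder hcop 1 0
  obtain ⟨q', hq'⟩ := Nat.modEq_zero_iff_dvd.mp hq2
  set δ' := δ ^ q with hδ'
  have hδ'ord : δ' ^ c' = 1 := by
    rw [hδ', ← pow_mul, hq', show p ^ e * q' * c' = orderOf δ * q' by rw [hoc]; ring, pow_mul, pow_orderOf_eq_one,
      one_pow]
  have hδ'V : ∀ v : V, δ' (Subgroup.inclusion hVN' v) = Subgroup.inclusion hVN' (γ v) := fun v => by
    rw [hδ', hδVpow]
    have : γ ^ q = γ := by
      conv_rhs => rw [← pow_one γ]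
      rw [pow_eq_pow_iff_modEq]
      exact hq1
    rw [this]
  have hδ'F : δ' ∈ F.autGroup N' := pow_mem hδF q
  obtain ⟨φ', hφ', hφ'r, hφ'e⟩ := F.exists_map_of_mem_autGroup hN'S hδ'F
  have hδ'P : ∀ y (hy : y ∈ P), δ' ⟨y, hVN' (hPV hy)⟩ = ⟨y, hVN' (hPV hy)⟩ := fun y hy => by
    have h1 := hδ'V ⟨y, hPV hy⟩
    rw [hfix _ hy] at h1
    exact h1
  have hfixN : ∀ x : N', (x : Ω) ∈ N → δ' x = x := by
    intro x hx
    set z : N' := x⁻¹ * δ' x with hz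
    have hiso : F.IsIso N' N' (funOf φ') := ⟨φ', hφ', hφ'r, funOf_apply φ'⟩
    have hval : ∀ y : N', funOf φ' y = ((δ' y : N') : Ω) := fun y =>
      (funOf_apply φ' y).symm.trans (hφ'e y)
    have hxT : ((δ' x : N') : Ω) ∈ T := hval x ▸ hEi.2.1.iso_mem hiso x.2 (hNT hx)
    have hzP : (z : Ω) ∈ P := by
      refine hP.2 P (E.isConj_refl hPT) ⟨?_, Subgroup.mem_centralizer_iff.mpr fun y hy => ?_⟩
      · rw [hz, Subgroup.coe_mul, Subgroup.coe_inv]
        exact T.mul_mem (T.inv_mem (hNT hx)) hxT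
      · set y' : N' := ⟨y, hVN' (hPV hy)⟩ with hy'
        have hxy : (x : Ω) * y * (x : Ω)⁻¹ ∈ P := (Subgroup.mem_normalizer_iff.mp hx.2 y).mp hy
        have h1 : x * y' * x⁻¹ = δ' x * y' * (δ' x)⁻¹ := by
          conv_lhs => rw [show x * y' * x⁻¹ = δ' (x * y' * x⁻¹) from (hδ'P _ hxy).symm]
          rw [map_mul, map_mul, map_inv, hδ'P y hy]
        show ((y' : N') : Ω) * (z : Ω) = (z : Ω) * ((y' : N') : Ω)
        rw [← Subgroup.coe_mul, ← Subgroup.coe_mul]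
        congr 1
        calc y' * z = x⁻¹ * (x * y' * x⁻¹) * δ' x := by rw [hz]; group
          _ = x⁻¹ * (δ' x * y' * (δ' x)⁻¹) * δ' x := by rw [h1]
          _ = z * y' := by rw [hz]; group
    have hzfix : δ' z = z := hδ'P _ hzP
    have hit : ∀ k : ℕ, (δ' ^ k) x = x * z ^ k := by
      intro k
      induction k with
      | zero => simp
      | succ k ihk =>
        rw [pow_succ', MulAut.mul_apply, ihk, map_mul, map_pow, hzfix, pow_succ', hz, ← mul_assoc,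
          mul_inv_cancel_left]
    have h2 := hit c'
    rw [hδ'ord, MulAut.one_apply] at h2
    have hz1 : z ^ c' = 1 := by simpa using h2.symm
    have hz2 : z ^ (p ^ jT) = 1 := Subtype.ext (by
      rw [SubmonoidClass.coe_pow]
      exact hTexp _ (hPT hzP))
    have := eq_one_of_pow_coprime hz1 hz2 (((Nat.Prime.coprime_iff_not_dvd Fact.out).mpr hc').symm.pow_right jT)
    rw [hz] at this
    exact (eq_of_inv_mul_eq_one this).symm
  have hord' : ¬ p ∣ orderOf δ' := fun hdvd => hc' (hdvd.trans (orderOf_dvd_of_pow_eq_one hδ'ord))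
  haveI := finite_of_le (hNT.trans hTS : N ≤ S)
  have hlt' : Nat.card T - Nat.card N < Nat.card T - Nat.card P := by
    haveI := finite_of_le (hPT.trans hTS : P ≤ S)
    have h1 : Nat.card P < Nat.card N := card_lt_of_lt (lt_normalizerIn hT hlt)
    have h2 : Nat.card N ≤ Nat.card T :=
      Nat.card_le_card_of_injective (Subgroup.inclusion hNT) (Subgroup.inclusion_injective _)
    omega
  obtain ⟨η, hη, hηT, hηe⟩ := ih _ hlt' N rfl (isCentric_of_le hP hPN hNT) δ' hδ'F hfixN hord'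
  exact ⟨η, hη, hηT, fun v => (hηe (Subgroup.inclusion hVN' v)).trans (congrArg Subtype.val (hδ'V v))⟩

end Cfsg.FusionSystem
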