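import Cfsg.Agent.Lib.Fusion.PrimeResidual.Transport
import Cfsg.Agent.Lib.Fusion.PrimeResidual.FixingExtension
import Cfsg.Agent.Lib.Fusion.PrimeResidual.Comparison

/-!
The residual of a weakly normal subsystem is normal.
-/

set_option autoImplicit false
set_option linter.unusedSectionVars false

namespace Cfsg.FusionSystem.PrimeResidual

universe u
variable {Ω : Type u} [Group Ω] {S T : Subgroup Ω} [Finite S] [Finite T] {p : ℕ} [Fact p.Prime]
  {F : FusionSystem S} {E : FusionSystem T} {P Q : Subgroup Ω} {b : Ω → Ω}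

theorem base_lift (hS : IsPGroup p S) (hE : E.IsWeaklyNormalIn F p) (hb : E.IsIso T T b)
    (hP : E.IsCentric P) (hPQ : (ampleCore E p).IsIso P Q b) : ∃ β, IsLift F T T T b β := by
  obtain ⟨hEs, hF, hEi⟩ := id hE
  have hTS := hEi.2.1.1
  have hT : IsPGroup p T := hS.to_le hTS
  set C := centralizerIn S T with hC
  set W := T ⊔ C with hW
  have hWS : W ≤ S := sup_le hTS centralizerIn_le
  haveI := finite_of_le hWS
  have hTW : T ≤ W := le_sup_left
  have hCW : C ≤ W := le_sup_right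
  have hCn : ∀ c ∈ C, ∀ y ∈ T, c * y * c⁻¹ = y := fun c hc y hy => by
    rw [← Subgroup.mem_centralizer_iff.mp hc.2 y hy, mul_inv_cancel_right]
  have hWn : W ≤ Subgroup.normalizer (T : Set Ω) :=
    sup_le Subgroup.le_normalizer (centralizerIn_le.trans hEi.2.1.le_normalizer)
  -- some extension of `b`
  obtain ⟨β₀, R, hβ₀, hβ₀e⟩ := (hF.isReceptive_of_isFullyCentralized hS hEi.2.1.isFullyNormalized.2).extend
    (hb.mono hEi.1) hWS hTW hWn fun w hw => by
    obtain ⟨u, hu, c, hc, rfl⟩ := (mem_sup_centralizerIn (le_refl T)).mp hw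
    refine ⟨b u, hTS (hb.mem hu), fun y hy => ?_⟩
    rw [show u * c * y * (u * c)⁻¹ = u * (c * y * c⁻¹) * u⁻¹ by group, hCn c hc y hy, hb.apply_conj hu hy]
  have hC₀ : ∀ c ∈ C, β₀ c ∈ C := fun c hc => ⟨hβ₀.le_right (hβ₀.mem (hCW hc)),
    hβ₀.mem_centralizer hTW (fun y => ⟨fun hy => by
      obtain ⟨x, hx, rfl⟩ := hb.surj hy
      exact ⟨x, hx, hβ₀e x hx⟩, fun ⟨x, hx, he⟩ => he ▸ (hβ₀e x hx) ▸ hb.mem hx⟩) (hCW hc) hc.2⟩
  have hR : R = W := hβ₀.eq_of_le hWS (fun y hy => by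
    obtain ⟨w, hw, rfl⟩ := hβ₀.surj hy
    obtain ⟨u, hu, c, hc, rfl⟩ := (mem_sup_centralizerIn (le_refl T)).mp hw
    rw [hβ₀.apply_mul (hTW hu) (hCW hc), hβ₀e u hu]
    exact mul_mem (hTW (hb.mem hu)) (hCW (hC₀ c hc))) le_rfl
  rw [hR] at hβ₀
  obtain ⟨β₁, hβ₁, hl, hrt⟩ := hβ₀.symm
  have hC₁ : ∀ c ∈ C, β₁ c ∈ C := fun c hc => ⟨hβ₁.le_right (hβ₁.mem (hCW hc)),
    hβ₁.mem_centralizer hTW (fun y => ⟨fun hy => ⟨b y, hb.mem hy, by rw [← hβ₀e y hy, hl y (hTW hy)]⟩,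
      fun ⟨x, hx, he⟩ => by
        obtain ⟨z, hz, rfl⟩ := hb.surj hx
        rw [← hβ₀e z hz, hl z (hTW hz)] at he
        exact he ▸ hz⟩) (hCW hc) hc.2⟩
  -- the lift of the restriction to `P`
  obtain ⟨ψ, hψ, hψe, hψc⟩ := hE.core_lift hS hP hPQ
  set V := P ⊔ C with hV
  have hPT := hP.1
  have hPV : P ≤ V := le_sup_left
  have hCV : C ≤ V := le_sup_right
  have hVW : V ≤ W := sup_le_sup_right hPT C
  haveI := finite_of_le (hVW.trans hWS)
  have hQT : Q ≤ T := hPQ.le_right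
  obtain ⟨R₁, hres, -, hR₁⟩ := hβ₁.restrict (sup_le_sup_right hQT C)
  set γ₀ : Ω → Ω := fun x => β₁ (ψ x) with hγ₀def
  have hγ₀ : F.IsIso V R₁ γ₀ := hψ.comp hres
  have hγP : ∀ y ∈ P, γ₀ y = y := fun y hy => by
    show β₁ (ψ y) = y
    rw [hψe y hy, ← hβ₀e y (hPT hy), hl y (hTW (hPT hy))]
  have hu : ∀ c ∈ C, β₁ (c⁻¹ * ψ c) ∈ P := fun c hc => by
    obtain ⟨x, hx, hxe⟩ := hPQ.surj
      (IsLift.moved hEi hP (hPQ.mono core_le) hψ hψe hc (hψc c hc))
    rw [← hxe, ← hβ₀e x (hPT hx), hl x (hTW (hPT hx))]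
    exact hx
  have hγC : ∀ c ∈ C, γ₀ c = β₁ c * β₁ (c⁻¹ * ψ c) := fun c hc => by
    rw [← hβ₁.apply_mul (hCW hc) (hTW (hψc c hc)), mul_inv_cancel_left]
  have hR₁V : R₁ = V := hγ₀.eq_of_le (hVW.trans hWS) (fun y hy => by
    obtain ⟨v, hv, rfl⟩ := hγ₀.surj hy
    obtain ⟨u, hu', c, hc, rfl⟩ := (mem_sup_centralizerIn hPT).mp hv
    rw [hγ₀.apply_mul (hPV hu') (hCV hc), hγP u hu', hγC c hc]
    exact mul_mem (hPV hu') (mul_mem (hCV (hC₁ c hc)) (hPV (hu c hc)))) le_rfl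
  rw [hR₁V] at hγ₀
  obtain ⟨α, hα, hαe⟩ := hγ₀.toAut
  haveI : Finite (MulAut V) := finite_mulAut_of_le (hVW.trans hWS)
  obtain ⟨e, o, ho, hoe⟩ := Nat.exists_eq_pow_mul_and_not_dvd (orderOf_pos α).ne' p (Fact.out : p.Prime).ne_one
  set q := p ^ e with hq
  have hord : ¬ p ∣ orderOf (α ^ q) := fun h => ho (h.trans (orderOf_dvd_of_pow_eq_one (by
    rw [← pow_mul, ← hoe, pow_orderOf_eq_one])))
  have hfix : ∀ (k : ℕ) (x : V), (x : Ω) ∈ P → (α ^ k) x = x := fun k x hx => by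
    induction k with
    | zero => simp
    | succ k ihk =>
      rw [pow_succ', MulAut.mul_apply, ihk]
      exact Subtype.ext ((hαe x).trans (hγP x hx))
  obtain ⟨η, hη, hηT, hηe⟩ := hE.fixing_extension hS P hP (α ^ q) (pow_mem hα q) (hfix q) hord
  -- compare modulo `T`
  have hcong : ∀ (k : ℕ) (c : Ω), c ∈ C → c⁻¹ * β₀^[k] (γ₀^[k] c) ∈ T := by
    intro k
    induction k with
    | zero => intro c hc; simpa using T.one_mem
    | succ k ihk =>
      intro c hc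
      have hit : ∀ (m : ℕ) (x : Ω), x ∈ V → γ₀^[m] x ∈ V := fun m x hx => by
        induction m with
        | zero => exact hx
        | succ m ihm => rw [Function.iterate_succ_apply']; exact hγ₀.mem ihm
      have hitu : ∀ (m : ℕ) (x : Ω), x ∈ P → γ₀^[m] x = x := fun m x hx => by
        induction m with
        | zero => rfl
        | succ m ihm => rw [Function.iterate_succ_apply', ihm, hγP x hx]
      have hmul : ∀ (m : ℕ) (x y : Ω), x ∈ V → y ∈ V → γ₀^[m] (x * y) = γ₀^[m] x * γ₀^[m] y := fun m x y hx hy => by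
        induction m with
        | zero => rfl
        | succ m ihm =>
          rw [Function.iterate_succ_apply', Function.iterate_succ_apply', Function.iterate_succ_apply', ihm,
            hγ₀.apply_mul (hit m x hx) (hit m y hy)]
      have hmulβ : ∀ (m : ℕ) (x y : Ω), x ∈ W → y ∈ W → β₀^[m] x ∈ W ∧ β₀^[m] (x * y) = β₀^[m] x * β₀^[m] y := by
        intro m
        induction m with
        | zero => exact fun x y hx hy => ⟨hx, rfl⟩
        | succ m ihm =>
          intro x y hx hy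
          obtain ⟨h1, h2⟩ := ihm x y hx hy
          have h3 := (ihm y y hy hy).1
          exact ⟨by rw [Function.iterate_succ_apply']; exact hβ₀.mem h1, by
            rw [Function.iterate_succ_apply', Function.iterate_succ_apply', Function.iterate_succ_apply', h2,
              hβ₀.apply_mul h1 h3]⟩
      have hitT : ∀ (m : ℕ) (x : Ω), x ∈ T → β₀^[m] x ∈ T := fun m x hx => by
        induction m with
        | zero => exact hx
        | succ m ihm => rw [Function.iterate_succ_apply', hβ₀e _ ihm]; exact hb.mem ihm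
      set c₁ := β₁ c with hc₁
      set u := β₁ (c⁻¹ * ψ c) with hudef
      have hc₁C : c₁ ∈ C := hC₁ c hc
      have e1 : γ₀^[k + 1] c = γ₀^[k] c₁ * u := by
        rw [Function.iterate_succ_apply, hγC c hc, hmul k _ _ (hCV hc₁C) (hPV (hu c hc)), hitu k u (hu c hc)]
      have h1 : β₀^[k] (γ₀^[k + 1] c) = c₁ * ((c₁⁻¹ * β₀^[k] (γ₀^[k] c₁)) * β₀^[k] u) := by
        rw [e1, (hmulβ k _ _ (hVW (hit k _ (hCV hc₁C))) (hTW (hPT (hu c hc)))).2, mul_assoc,
          mul_inv_cancel_left]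
      have ht : c₁⁻¹ * β₀^[k] (γ₀^[k] c₁) * β₀^[k] u ∈ T := T.mul_mem (ihk c₁ hc₁C) (hitT k u (hPT (hu c hc)))
      rw [Function.iterate_succ_apply', h1, hβ₀.apply_mul (hCW hc₁C) (hTW ht), hrt c (hCW hc), hβ₀e _ ht,
        inv_mul_cancel_left]
      exact hb.mem ht
  -- in the automiser of `T C_S(T)`
  obtain ⟨β, hβ, hβe⟩ := hβ₀.toAut
  haveI := finite_autGroup (F := F) hWS
  have hpresT : ∀ (g : F.autGroup W) (x : W), (x : Ω) ∈ T → (((g : MulAut W) x : W) : Ω) ∈ T := by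
    intro g x hx
    obtain ⟨f, hf, hfe⟩ := isIso_of_aut hWS g.2
    rw [hfe]
    exact hEi.2.1.iso_mem hf x.2 hx
  have hpresC : ∀ (g : F.autGroup W) (x : W), (x : Ω) ∈ C → (((g : MulAut W) x : W) : Ω) ∈ C := by
    intro g x hx
    refine ⟨hWS (SetLike.coe_mem _), Subgroup.mem_centralizer_iff.mpr fun y hy => ?_⟩
    set y' : W := ((g⁻¹ : F.autGroup W) : MulAut W) ⟨y, hTW hy⟩ with hy'
    have hgy : (g : MulAut W) y' = ⟨y, hTW hy⟩ := by simp [hy']
    have h1 : y' * x = x * y' := Subtype.ext (Subgroup.mem_centralizer_iff.mp hx.2 _ (hpresT g⁻¹ _ hy))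
    have h2 := congrArg (fun z : W => (((g : MulAut W) z : W) : Ω)) h1
    simp only [map_mul, hgy, Subgroup.coe_mul] at h2
    exact h2
  let M : Subgroup (F.autGroup W) :=
    { carrier := {g | ∀ c : W, (c : Ω) ∈ C → ((c⁻¹ * (g : MulAut W) c : W) : Ω) ∈ T}
      one_mem' := fun c _ => by simp
      mul_mem' := fun {g h} hg hh c hc => by
        have e : c⁻¹ * ((g * h : F.autGroup W) : MulAut W) c =
            (c⁻¹ * (g : MulAut W) c) * (g : MulAut W) (c⁻¹ * (h : MulAut W) c) := by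
          rw [Subgroup.coe_mul, MulAut.mul_apply, map_mul, map_inv]
          group
        rw [e, Subgroup.coe_mul]
        exact T.mul_mem (hg c hc) (hpresT g _ (hh c hc))
      inv_mem' := fun {g} hg c hc => by
        set c' := ((g⁻¹ : F.autGroup W) : MulAut W) c with hc'
        have h1 := hg c' (hpresC g⁻¹ c hc)
        have hgc : (g : MulAut W) c' = c := by simp [hc']
        rw [hgc] at h1
        have h2 := T.inv_mem h1
        rw [← Subgroup.coe_inv, mul_inv_rev, inv_inv] at h2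
        exact h2 }
  haveI hMn : M.Normal := ⟨fun m hm g c hc => by
    set c' := ((g⁻¹ : F.autGroup W) : MulAut W) c with hc'
    have hgc : (g : MulAut W) c' = c := by simp [hc']
    have e : c⁻¹ * ((g * m * g⁻¹ : F.autGroup W) : MulAut W) c = (g : MulAut W) (c'⁻¹ * (m : MulAut W) c') := by
      rw [map_mul, map_inv, hgc, Subgroup.coe_mul, Subgroup.coe_mul, MulAut.mul_apply, MulAut.mul_apply]
    rw [e]
    exact hpresT g _ (hm c' (hpresC g⁻¹ c hc))⟩
  let H : Subgroup (F.autGroup W) :=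
    { carrier := {g | ∀ x : W, (x : Ω) ∈ T → (g : MulAut W) x = x}
      one_mem' := fun x _ => rfl
      mul_mem' := fun {g h} hg hh x hx => by
        rw [Subgroup.coe_mul, MulAut.mul_apply, hh x hx, hg x hx]
      inv_mem' := fun {g} hg x hx => by
        conv_lhs => rw [← hg x hx]
        simp }
  set βG : F.autGroup W := ⟨β, hβ⟩ with hβG
  have hβk : ∀ (k : ℕ) (x : W), ((((βG ^ k : F.autGroup W) : MulAut W) x : W) : Ω) = β₀^[k] x := fun k x => by
    rw [Subgroup.coe_pow]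
    exact coe_pow_apply hβe k x
  obtain ⟨ηA, hηA, hηAe⟩ := hη.toAut
  set ηG : F.autGroup W := ⟨ηA, hηA⟩ with hηG
  have h1 : βG ^ q * ηG ∈ M := fun c hc => by
    rw [Subgroup.coe_mul, Subgroup.coe_inv, Subgroup.coe_mul, MulAut.mul_apply, hβk, hηAe]
    have h2 := hηe ⟨c, hCV hc⟩
    rw [coe_pow_apply hαe] at h2
    rw [show η c = γ₀^[q] c from h2]
    exact hcong q c hc
  have hηH : ηG ∈ H := fun x hx => Subtype.ext ((hηAe x).trans (hηT x hx))
  have hq' : βG ^ q ∈ H ⊔ M := by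
    rw [← mul_inv_cancel_right (βG ^ q) ηG]
    exact mul_mem (Subgroup.mem_sup_right h1) (Subgroup.mem_sup_left (InvMemClass.inv_mem hηH))
  obtain ⟨n, hn, hinn⟩ := hEs.exists_pow_inner hT
  have hn' : βG ^ n ∈ H ⊔ M := by
    obtain ⟨bA, hbA, hbAe⟩ := hb.toAut
    obtain ⟨t, ht, -, hte⟩ := mem_autInducedBy_iff.mp (hinn bA hbA)
    have htW : t ∈ Subgroup.normalizer (W : Set Ω) := Subgroup.le_normalizer (hTW ht)
    set κ : F.autGroup W := ⟨W.normalizerMonoidHom ⟨t, htW⟩, autInducedBy_le_autGroup hWS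
      (mem_autInducedBy_iff.mpr ⟨t, hTS ht, htW, fun _ => rfl⟩)⟩ with hκ
    have hκe : ∀ x : W, (((κ : MulAut W) x : W) : Ω) = t * x * t⁻¹ := fun x => rfl
    have hκM : κ ∈ M := fun c hc => by
      rw [Subgroup.coe_mul, Subgroup.coe_inv, hκe, Subgroup.mem_centralizer_iff.mp hc.2 t ht, mul_inv_cancel_right,
        inv_mul_cancel]
      exact T.one_mem
    have hH : κ⁻¹ * βG ^ n ∈ H := fun x hx => by
      have h3 : (((βG ^ n : F.autGroup W) : MulAut W) x) = (κ : MulAut W) x := Subtype.ext (by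
        rw [hβk, hκe]
        have h4 := hte ⟨x, hx⟩
        rw [coe_pow_apply hbAe] at h4
        refine Eq.trans ?_ h4
        have key : ∀ m : ℕ, β₀^[m] (x : Ω) = b^[m] x ∧ b^[m] (x : Ω) ∈ T := fun m => by
          induction m with
          | zero => exact ⟨rfl, hx⟩
          | succ m ihm =>
            rw [Function.iterate_succ_apply', Function.iterate_succ_apply', ihm.1, hβ₀e _ ihm.2]
            exact ⟨rfl, hb.mem ihm.2⟩
        exact (key n).1)
      rw [Subgroup.coe_mul, MulAut.mul_apply, h3]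
      simp
    rw [← mul_inv_cancel_left κ (βG ^ n)]
    exact mul_mem (Subgroup.mem_sup_right hκM) (Subgroup.mem_sup_left hH)
  have hcop : Nat.gcd q n = 1 := Nat.Coprime.pow_left e ((Nat.Prime.coprime_iff_not_dvd Fact.out).mpr hn)
  have hmem : βG ∈ H ⊔ M := by
    have h2 : βG = (βG ^ q) ^ Nat.gcdA q n * (βG ^ n) ^ Nat.gcdB q n := by
      rw [← zpow_natCast, ← zpow_natCast βG n, ← zpow_mul, ← zpow_mul, ← zpow_add, ← Nat.gcd_eq_gcd_ab, hcop,
        Nat.cast_one, zpow_one]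
    rw [h2]
    exact mul_mem (Subgroup.zpow_mem _ hq' _) (Subgroup.zpow_mem _ hn' _)
  obtain ⟨h, hh, m, hm, hhm⟩ : ∃ h ∈ H, ∃ m ∈ M, h * m = βG := by
    have : βG ∈ (↑(H ⊔ M) : Set (F.autGroup W)) := hmem
    rw [Subgroup.mul_normal H M] at this
    exact this
  set μ : F.autGroup W := βG * h⁻¹ with hμ
  have hμM : μ ∈ M := by
    rw [hμ, ← hhm]
    exact hMn.conj_mem m hm h
  obtain ⟨f, hf, hfe⟩ := isIso_of_aut hWS μ.2
  refine ⟨f, hf, fun x hx => ?_, fun c hc => ?_⟩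
  · rw [← hfe ⟨x, hTW hx⟩, hμ, Subgroup.coe_mul, MulAut.mul_apply, H.inv_mem hh ⟨x, hTW hx⟩ hx, hβe]
    exact hβ₀e x hx
  · have h2 := hμM ⟨c, hCW hc⟩ hc
    rw [Subgroup.coe_mul, Subgroup.coe_inv, hfe] at h2
    exact h2

theorem gen_lift (hS : IsPGroup p S) (hE : E.IsWeaklyNormalIn F p) (hb : Gen E p b) :
    ∃ β, IsLift F T T T b β := by
  induction hb with
  | base b P Q hb hP hPQ => exact base_lift hS hE hb hP hPQ
  | comp b c hb hc ihb ihc =>
    obtain ⟨β, hβ, hβe, hβc⟩ := ihb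
    obtain ⟨χ, hχ, hχe, hχc⟩ := ihc
    refine ⟨fun x => χ (β x), hβ.comp hχ, fun x hx => ?_, fun d hd => ?_⟩
    · show χ (β x) = c (b x)
      rw [hβe x hx, hχe _ (hb.isIso.mem hx)]
    · show d⁻¹ * χ (β d) ∈ T
      rw [show β d = d * (d⁻¹ * β d) by group,
        hχ.apply_mul (Subgroup.mem_sup_right hd) (Subgroup.mem_sup_left (hβc d hd)), ← mul_assoc,
        hχe _ (hβc d hd)]
      exact T.mul_mem (hχc d hd) (hc.isIso.mem (hβc d hd))
  | congr b c _ he ihb =>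
    obtain ⟨β, hβ, hβe, hβc⟩ := ihb
    exact ⟨β, hβ, fun x hx => (hβe x hx).trans (he x hx).symm, hβc⟩

theorem residual_isNormalIn (hS : IsPGroup p S) (hT : IsPGroup p T) (hE : E.IsWeaklyNormalIn F p) :
    (residual hT hE.1).IsNormalIn F p := by
  obtain ⟨hEs, hF, hEi⟩ := id hE
  refine ⟨⟨residual_isSaturated, hF, fun P φ hφ => hEi.1 P (residual_le P hφ), hEi.2.1, ?_, ?_⟩, ?_⟩
  · intro P hPT φ hφ α hα
    obtain ⟨a, ha, hae⟩ := isIso_of_aut hEi.2.1.1 hα
    obtain ⟨f, Q, ⟨χ, hχ, -, hχe⟩, hfe⟩ := residual_transport hS hT hE ha hφ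
      (P' := (P.subgroupOf T).map (T.subtype.comp α.toMonoidHom)) (fun y => by
        constructor
        · rintro ⟨x, hx, rfl⟩
          exact ⟨x, hx, (hae x).symm⟩
        · rintro ⟨x, hx, rfl⟩
          exact ⟨⟨x, hPT hx⟩, hx, hae _⟩)
    refine ⟨χ, hχ, fun x hφx hαx => ?_⟩
    rw [hχe, hae, hfe, hae]
  · intro P hPT φ hφ
    obtain ⟨α, hα, φ₀, hφ₀, hφe⟩ := hEi.2.2.2 P hPT φ hφ
    obtain ⟨c, Q₀, f, hc, hf, hfe, -⟩ := frattini hT hEs (isIso_funOf hφ₀)
    obtain ⟨γ, hγ, hγe⟩ := hc.toAut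
    obtain ⟨χ, hχ, -, hχe⟩ := hf.mono (E' := residual hT hEs) core_le_residual
    refine ⟨α * γ, mul_mem hα (IsSubsystemOf.isIso_autGroup hEi.1 le_rfl hγ), χ, hχ, fun x hx => ?_⟩
    rw [hφe x (E.apply_mem hφ₀ x), MulAut.mul_apply]
    have h1 : γ ⟨χ x, hx⟩ = ⟨φ₀ x, E.apply_mem hφ₀ x⟩ := Subtype.ext (by
      rw [hγe]
      show c (χ x) = φ₀ x
      rw [hχe, funOf_apply φ₀ x, hfe _ x.2])
    rw [h1]
  · intro α hα
    obtain ⟨a, ha, hae⟩ := isIso_of_aut le_rfl hα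
    obtain ⟨β, hβ, hβe, hβc⟩ := gen_lift hS hE (gen_of_centric isCentric_self (ha.mono residual_le) ha)
    obtain ⟨γ, hγ, hγe⟩ := hβ.toAut
    refine ⟨γ, hγ, fun x => ?_, fun c hc => ⟨?_, ?_⟩⟩
    · rw [hγe, hae]
      exact hβe x x.2
    · rw [hγe]
      exact hβc c hc
    · rw [hγe]
      have h1 : β c ∈ Subgroup.centralizer (T : Set Ω) :=
        hβ.mem_centralizer le_sup_left (fun y => ⟨fun hy => by
          obtain ⟨z, hz, rfl⟩ := ha.surj hy
          exact ⟨z, hz, hβe z hz⟩, fun ⟨z, hz, he⟩ => he ▸ (hβe z hz) ▸ ha.mem hz⟩) c.2 hc.2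
      exact Subgroup.mul_mem _ (InvMemClass.inv_mem hc.2) h1

end Cfsg.FusionSystem.PrimeResidual
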