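import Cfsg.Agent.Lib.Fusion.PrimeResidual.Setup

/-!
Existence of the `p'`-residual subsystem of a saturated fusion system.
-/

set_option autoImplicit false
set_option linter.unusedSectionVars false

namespace Cfsg.FusionSystem.PrimeResidual

universe u
variable {Ω : Type u} [Group Ω] {S : Subgroup Ω} [Finite S] {p : ℕ} [Fact p.Prime] {F : FusionSystem S}
  {A A' P Q R V V' X X' Y : Subgroup Ω} {f g b : Ω → Ω}

/-- The automorphisms of `S` generated by those restricting to the core on some centric subgroup. -/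
inductive Gen (F : FusionSystem S) (p : ℕ) [Fact p.Prime] : (Ω → Ω) → Prop
  | base (b : Ω → Ω) (P Q : Subgroup Ω) : F.IsIso S S b → F.IsCentric P → (ampleCore F p).IsIso P Q b →
      Gen F p b
  | comp (b c : Ω → Ω) : Gen F p b → Gen F p c → Gen F p (fun x => c (b x))
  | congr (b c : Ω → Ω) : Gen F p b → (∀ x ∈ S, c x = b x) → Gen F p c

theorem Gen.isIso (h : Gen F p b) : F.IsIso S S b := by
  induction h with
  | base b P Q hb _ _ => exact hb
  | comp b c _ _ hb hc => exact hb.comp hc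
  | congr b c _ he hb => exact hb.congr he

theorem gen_id : Gen F p (fun x : Ω => x) :=
  .base _ S S (IsIso.refl F le_rfl) isCentric_self (IsIso.refl _ le_rfl)

theorem Gen.symm (h : Gen F p b) : ∃ c, Gen F p c ∧ (∀ x ∈ S, c (b x) = x) ∧ ∀ y ∈ S, b (c y) = y := by
  induction h with
  | base b P Q hb hP hPQ =>
    obtain ⟨c, hc, hl, hr⟩ := hb.symm
    obtain ⟨c', hc', hl', hr'⟩ := hPQ.symm
    refine ⟨c, .base c Q P hc (hP.of_isConj (hPQ.mono core_le).isConj) (hc'.congr fun y hy => ?_), hl, hr⟩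
    obtain ⟨x, hx, rfl⟩ := hPQ.surj hy
    rw [hl x (hPQ.le_left hx), hl' x hx]
  | comp b c hb' hc' hb hc =>
    obtain ⟨b₁, hb₁, hl₁, hr₁⟩ := hb
    obtain ⟨c₁, hc₁, hl₂, hr₂⟩ := hc
    refine ⟨_, .comp c₁ b₁ hc₁ hb₁, fun x hx => ?_, fun y hy => ?_⟩
    · show b₁ (c₁ (c (b x))) = x
      rw [hl₂ _ (hb'.isIso.mem hx), hl₁ x hx]
    · show c (b (b₁ (c₁ y))) = y
      rw [hr₁ _ (hc₁.isIso.mem hy), hr₂ y hy]
  | congr b c hb' he hb =>
    obtain ⟨b₁, hb₁, hl, hr⟩ := hb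
    refine ⟨b₁, hb₁, fun x hx => ?_, fun y hy => ?_⟩
    · rw [he x hx, hl x hx]
    · rw [he _ (hb₁.isIso.mem hy), hr y hy]

/-- The least saturated subsystem of index prime to `p`. -/
def residual (hS : IsPGroup p S) (hF : F.IsSaturated p) : FusionSystem S where
  Hom P := {φ | φ ∈ F.Hom P ∧ ∃ (b : Ω → Ω) (Q : Subgroup Ω) (f : Ω → Ω),
    Gen F p b ∧ (ampleCore F p).IsIso P Q f ∧ ∀ x : P, φ x = b (f x)}
  le_of_mem h := F.le_of_mem h.1
  injective_of_mem h := F.injective_of_mem h.1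
  conj_mem := by
    intro P g hP hg
    exact ⟨F.conj_mem hP hg, fun x => x, _, fun x => g * x * g⁻¹, gen_id, isIso_conj hP hg, fun x => rfl⟩
  comp_mem := by
    rintro P R φ ψ ⟨hφ, b, Q, f, hb, hf, hφe⟩ ⟨hψ, c, Q', g, hc, hg, hψe⟩ hh
    refine ⟨F.comp_mem hφ hψ hh, ?_⟩
    obtain ⟨b₁, hb₁, hl, hr⟩ := hb.symm
    have hRS := hg.le_left
    obtain ⟨R₀, -, -, hR₀⟩ := hb₁.isIso.restrict hRS
    obtain ⟨Q₀, -, -, hQ₀⟩ := hb₁.isIso.restrict hg.le_right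
    obtain ⟨g', hg', hg'e⟩ := invariant hS hF hb₁.isIso hg hR₀ hQ₀
    have hQR : Q ≤ R₀ := fun y hy => by
      obtain ⟨x, hx, rfl⟩ := hf.surj hy
      refine (hR₀ _).mpr ⟨φ ⟨x, hx⟩, hh ⟨x, hx⟩, ?_⟩
      rw [hφe, hl _ (hf.le_right (hf.mem hx))]
    obtain ⟨Q₂, hres, -, -⟩ := hg'.restrict hQR
    refine ⟨fun x => c (b x), Q₂, fun x => g' (f x), .comp b c hb hc, hf.comp hres, fun x => ?_⟩
    show ψ ⟨φ x, hh x⟩ = c (b (g' (f x)))
    rw [hψe]
    congr 1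
    show g (φ x) = b (g' (f x))
    have hfx : f x = b₁ (φ x) := by rw [hφe, hl _ (hf.le_right (hf.mem x.2))]
    rw [hfx, hg'e _ (hh x), hr _ (hg.le_right (hg.mem (hh x)))]
  inv_mem := by
    rintro P φ ⟨hφ, b, Q, f, hb, hf, hφe⟩
    obtain ⟨ψ, hψ, hψe⟩ := F.inv_mem hφ
    refine ⟨ψ, ⟨hψ, ?_⟩, hψe⟩
    obtain ⟨b₁, hb₁, hl, hr⟩ := hb.symm
    obtain ⟨f₁, hf₁, hfl, hfr⟩ := hf.symm
    have hQS := hf.le_right
    have hQ₀ : ∀ y, y ∈ φ.range ↔ ∃ x ∈ Q, b x = y := fun y => by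
      constructor
      · rintro ⟨x, rfl⟩
        exact ⟨f x, hf.mem x.2, (hφe x).symm⟩
      · rintro ⟨z, hz, rfl⟩
        obtain ⟨x, hx, rfl⟩ := hf.surj hz
        exact ⟨⟨x, hx⟩, hφe _⟩
    obtain ⟨P₀, -, -, hP₀⟩ := hb.isIso.restrict (F.source_le hφ)
    obtain ⟨g, hg, hge⟩ := invariant hS hF hb.isIso hf₁ hQ₀ hP₀
    refine ⟨b₁, P₀, g, hb₁, hg, ?_⟩
    rintro ⟨_, x, rfl⟩
    rw [hψe x]
    show (x : Ω) = b₁ (g (φ x))
    rw [hφe, hge _ (hf.mem x.2), hfl x x.2, hl x (F.source_le hφ x.2)]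

variable {hS : IsPGroup p S} {hF : F.IsSaturated p}

theorem residual_le : (residual hS hF).IsSubsystemOf F := fun _ _ h => h.1

theorem core_le_residual : (ampleCore F p).IsSubsystemOf (residual hS hF) := fun P φ hφ =>
  ⟨hφ.1, fun x => x, φ.range, funOf φ, gen_id, isIso_funOf hφ, fun x => funOf_apply φ x⟩

theorem Gen.mem_residual (h : Gen F p b) : (residual hS hF).IsIso S S b := by
  obtain ⟨φ, hφ, hr, he⟩ := h.isIso
  exact ⟨φ, ⟨hφ, b, S, fun x => x, h, IsIso.refl _ le_rfl, he⟩, hr, he⟩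

theorem gen_of_centric (hP : F.IsCentric P) (hb : F.IsIso S S b) (h : (residual hS hF).IsIso P Q b) :
    Gen F p b := by
  obtain ⟨φ, ⟨-, c, Q₀, f, hc, hf, hφe⟩, -, he⟩ := h
  obtain ⟨c₁, hc₁, hl, hr⟩ := hc.symm
  have hbase : Gen F p (fun x => c₁ (b x)) := .base _ P Q₀ (hb.comp hc₁.isIso) hP (hf.congr fun x hx => by
    rw [← he ⟨x, hx⟩, hφe ⟨x, hx⟩, hl _ (hf.le_right (hf.mem hx))])
  exact .congr _ _ (.comp _ c hbase hc) fun x hx => (hr _ (hb.mem hx)).symm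

/-- A map agreeing with the residual on a centric subgroup lies in it. -/
theorem iso_of_centric (hP : F.IsCentric P) (hPV : P ≤ V) (h : F.IsIso V V' f) {P' : Subgroup Ω}
    (hres : (residual hS hF).IsIso P P' f) : (residual hS hF).IsIso V V' f := by
  obtain ⟨c, V₀, f₀, hc, hf₀, he, hV'⟩ := frattini hS hF h
  obtain ⟨P₀, hP₀, -, hP₀m⟩ := hf₀.restrict hPV
  obtain ⟨g, hg, hl, -⟩ := hP₀.symm
  have h1 := (hg.mono core_le_residual (E' := residual hS hF)).comp hres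
  have h2 : (residual hS hF).IsIso P₀ P' c := h1.congr fun y hy => by
    obtain ⟨x, hx, rfl⟩ := (hP₀m y).mp hy
    rw [hl x hx, he x (hPV hx)]
  have hgen := gen_of_centric (hP.of_isConj (hP₀.mono core_le).isConj) hc h2
  have h3 := (hgen.mem_residual (hS := hS) (hF := hF)).restrict' hf₀.le_right hV'
  exact ((hf₀.mono core_le_residual).comp h3).congr he

theorem card_normalizerIn_le (h : F.IsIso S S b) (hA : A ≤ S) (hm : ∀ y, y ∈ A' ↔ ∃ x ∈ A, b x = y) :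
    Nat.card (normalizerIn S A) ≤ Nat.card (normalizerIn S A') := by
  haveI := finite_normalizerIn (S := S) (P := A')
  refine Nat.card_le_card_of_injective (fun x : normalizerIn S A =>
    (⟨b x, h.mem x.2.1, h.mem_normalizer hA hm x.2.1 x.2.2⟩ : normalizerIn S A')) fun x y hxy => ?_
  exact Subtype.ext (h.inj x.2.1 y.2.1 (congrArg Subtype.val hxy))

/-- Normalizer-extendable maps of the residual onto fully normalized subgroups. -/
def Move (hS : IsPGroup p S) (hF : F.IsSaturated p) (X A : Subgroup Ω) (a : Ω → Ω) : Prop :=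
  F.IsFullyNormalized A ∧ (∀ y, y ∈ A ↔ ∃ x ∈ X, a x = y) ∧
    ∃ U, (residual hS hF).IsIso (normalizerIn S X) U a ∧ U ≤ normalizerIn S A

theorem exists_move (hX : X ≤ S) : ∃ A a, Move hS hF X A a := by
  obtain ⟨B, hXB, hB⟩ := F.exists_isFullyNormalized hX
  obtain ⟨φ, hφ, hr, ψ, hψ, hψN, hψe⟩ := hF.exists_map_to_fullyNormalized hS hB hXB
  have hXN : X ≤ normalizerIn S X := le_normalizerIn hX
  have hiso := isIso_funOf hψ
  obtain ⟨c, U₀, f₀, hc, hf₀, he, hU⟩ := frattini hS hF hiso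
  obtain ⟨A, hXA, hAU, hA⟩ := hf₀.restrict hXN
  have hAS : A ≤ S := hXA.le_right
  have hBA : ∀ y, y ∈ B ↔ ∃ x ∈ A, c x = y := fun y => by
    constructor
    · intro hy
      obtain ⟨x, rfl⟩ := hr.ge hy
      refine ⟨f₀ x, (hA _).mpr ⟨x, x.2, rfl⟩, ?_⟩
      rw [← he x (hXN x.2), ← hψe x (hXN x.2), funOf_apply ψ ⟨x, hXN x.2⟩]
    · rintro ⟨z, hz, rfl⟩
      obtain ⟨x, hx, rfl⟩ := (hA z).mp hz
      rw [← he x (hXN hx), ← funOf_apply ψ ⟨x, hXN hx⟩, hψe ⟨x, hx⟩ (hXN hx)]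
      exact hr.le ⟨_, rfl⟩
  obtain ⟨c₁, hc₁, hl, -⟩ := hc.symm
  have hAB : ∀ y, y ∈ A ↔ ∃ x ∈ B, c₁ x = y := fun y => by
    constructor
    · intro hy
      exact ⟨c y, (hBA _).mpr ⟨y, hy, rfl⟩, hl y (hAS hy)⟩
    · rintro ⟨z, hz, rfl⟩
      obtain ⟨x, hx, rfl⟩ := (hBA z).mp hz
      rwa [hl x (hAS hx)]
  have hAfn : F.IsFullyNormalized A := by
    refine ⟨hAS, fun C hC => le_trans (hB.2 C ?_) (card_normalizerIn_le hc₁ hB.1 hAB)⟩
    exact (hXB.symm.trans (hXA.mono core_le).isConj).trans hC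
  refine ⟨A, f₀, hAfn, hA, U₀, hf₀.mono core_le_residual, fun y hy => ?_⟩
  obtain ⟨x, hx, rfl⟩ := hf₀.surj hy
  exact ⟨hf₀.le_right hy, hf₀.mem_normalizer hXN hA hx hx.2⟩

theorem centralizerIn_le_normalizerIn' (hAX : A ≤ X) : centralizerIn S X ≤ normalizerIn S A := fun x hx =>
  ⟨hx.1, Subgroup.centralizer_le_normalizer _ (Subgroup.centralizer_le hAX hx.2)⟩

theorem card_centralizerIn_le_iso {T : Subgroup Ω} {E : FusionSystem T} (hT : T ≤ S) (h : E.IsIso V V' f) (hA : A ≤ V)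
    (hC : centralizerIn S A ≤ V) (hA' : ∀ y, y ∈ A' ↔ ∃ x ∈ A, f x = y) :
    Nat.card (centralizerIn S A) ≤ Nat.card (centralizerIn S A') := by
  haveI := finite_centralizerIn (S := S) (P := A')
  refine Nat.card_le_card_of_injective (fun x : centralizerIn S A =>
    (⟨f x, hT (h.le_right (h.mem (hC x.2))), h.mem_centralizer hA hA' (hC x.2) x.2.2⟩ : centralizerIn S A'))
    fun x y hxy => ?_
  exact Subtype.ext (h.inj (hC x.2) (hC y.2) (congrArg Subtype.val hxy))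

theorem fullyCentralized_image (h : F.IsIso V V' f) (hA : A ≤ V) (hC : centralizerIn S A ≤ V)
    (hA' : ∀ y, y ∈ A' ↔ ∃ x ∈ A, f x = y) (hfc : F.IsFullyCentralized A) : F.IsFullyCentralized A' := by
  obtain ⟨A₁, hiso, -, hm⟩ := h.restrict hA
  obtain rfl : A' = A₁ := Subgroup.ext fun y => (hA' y).trans (hm y).symm
  exact ⟨hiso.le_right, fun C hC' =>
    le_trans (hfc.2 C (hiso.isConj.trans hC')) (card_centralizerIn_le_iso le_rfl h hA hC hA')⟩

/-- A map carrying a fully centralized `A` to `A'` sends `A C_S(A)` onto `A' C_S(A')`. -/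
theorem restrict_ext {E : FusionSystem S} (hE : E.IsSubsystemOf F) (h : E.IsIso V V' f) (hA : ext S A ≤ V)
    (hA' : ∀ y, y ∈ A' ↔ ∃ x ∈ A, f x = y) (hfc : F.IsFullyCentralized A) :
    E.IsIso (ext S A) (ext S A') f := by
  have hAV : A ≤ V := le_sup_left.trans hA
  have hCV : centralizerIn S A ≤ V := le_sup_right.trans hA
  obtain ⟨A₁, hiso, -, hm⟩ := h.restrict hAV
  obtain rfl : A' = A₁ := Subgroup.ext fun y => (hA' y).trans (hm y).symm
  obtain ⟨W, hW, -, hWm⟩ := h.restrict hA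
  suffices e : W = ext S A' by rwa [← e]
  refine le_antisymm (image_sup_le hW (fun x hx => Subgroup.mem_sup_left ((hA' _).mpr ⟨x, hx, rfl⟩))
    fun x hx => Subgroup.mem_sup_right ⟨h.le_right (h.mem (hCV hx)), h.mem_centralizer hAV hA' (hCV hx) hx.2⟩)
    (sup_le (fun y hy => ?_) fun y hy => ?_)
  · obtain ⟨x, hx, rfl⟩ := (hA' y).mp hy
    exact hW.mem (Subgroup.mem_sup_left hx)
  · haveI := finite_centralizerIn (S := S) (P := A')
    let i : centralizerIn S A → centralizerIn S A' := fun x =>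
      ⟨f x, h.le_right (h.mem (hCV x.2)), h.mem_centralizer hAV hA' (hCV x.2) x.2.2⟩
    have hinj : Function.Injective i := fun x z hxz =>
      Subtype.ext (h.inj (hCV x.2) (hCV z.2) (congrArg Subtype.val hxz))
    obtain ⟨x, hx⟩ := (hinj.bijective_of_nat_card_le (hfc.2 A' (hiso.mono hE).isConj)).2 ⟨y, hy⟩
    have hx' : f x = y := congrArg Subtype.val hx
    rw [← hx']
    exact hW.mem (Subgroup.mem_sup_right x.2)

theorem ext_isCentric (hfc : F.IsFullyCentralized A) : F.IsCentric (ext S A) := by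
  refine ⟨ext_le hfc.1, ?_⟩
  rintro R ⟨ψ, hψ, rfl⟩ y hy
  have hψi := isIso_funOf hψ
  obtain ⟨A', -, hA'R, hA'⟩ := hψi.restrict (le_sup_left : A ≤ ext S A)
  have h2 := restrict_ext (E := F) (fun _ _ h => h) hψi le_rfl hA' hfc
  have hy' : y ∈ ext S A' := Subgroup.mem_sup_right ⟨hy.1, Subgroup.centralizer_le hA'R hy.2⟩
  obtain ⟨x, hx, rfl⟩ := h2.surj hy'
  exact hψi.mem hx

/-- Maps of the residual between fully centralized subgroups of order `n` extend. -/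
def Extends (hS : IsPGroup p S) (hF : F.IsSaturated p) (n : ℕ) : Prop :=
  ∀ (B B' : Subgroup Ω) (r : Ω → Ω), Nat.card B = n → F.IsFullyCentralized B → F.IsFullyCentralized B' →
    (residual hS hF).IsIso B B' r →
      ∃ w, (residual hS hF).IsIso (ext S B) (ext S B') w ∧ ∀ x ∈ B, w x = r x

/-- The restriction to `A` of a residual map defined on a larger subgroup extends. -/
theorem restriction_extends (ih : ∀ m, Nat.card A < m → Extends hS hF m) (hA : F.IsFullyNormalized A)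
    (hA' : F.IsFullyNormalized A') (hV : (residual hS hF).IsIso V V' f) (hAV : A < V)
    (hVN : V ≤ normalizerIn S A) (hV'N : V' ≤ normalizerIn S A') (hfA : ∀ y, y ∈ A' ↔ ∃ x ∈ A, f x = y) :
    ∃ w, (residual hS hF).IsIso (ext S A) (ext S A') w ∧ ∀ x ∈ A, w x = f x := by
  haveI := finite_normalizerIn (S := S) (P := A)
  haveI := finite_normalizerIn (S := S) (P := A')
  haveI : Finite V := finite_of_le hV.le_left
  set N := normalizerIn S A with hNdef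
  set N' := normalizerIn S A' with hN'def
  have hAN : A ≤ N := le_normalizerIn hA.1
  have hfc := hF.isFullyCentralized_of_isFullyNormalized hS hA
  obtain ⟨A₁, hf₁, -, hfm⟩ := hV.restrict hAV.le
  obtain rfl : A' = A₁ := Subgroup.ext fun y => (hfA y).trans (hfm y).symm
  have hconj : F.IsConj A A' := (hf₁.mono residual_le).isConj
  obtain ⟨φ, hφ, hr, ψ, hψ, hψN, hψe⟩ := hF.exists_map_to_fullyNormalized hS hA' hconj
  have hz₀ := isIso_funOf hψ
  have hzr : ψ.range = N' := hz₀.eq_of_le normalizerIn_le (by rintro _ ⟨x, rfl⟩; exact hψN x)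
    (hA.2 A' hconj)
  set z := funOf ψ with hzdef
  rw [hzr] at hz₀
  have hzA : ∀ y, y ∈ A' ↔ ∃ x ∈ A, z x = y := fun y => by
    constructor
    · intro hy
      obtain ⟨x, rfl⟩ := hr.ge hy
      exact ⟨x, x.2, (funOf_apply ψ ⟨x, hAN x.2⟩).symm.trans (hψe x (hAN x.2))⟩
    · rintro ⟨x, hx, rfl⟩
      show funOf ψ x ∈ A'
      rw [← funOf_apply ψ ⟨x, hAN hx⟩, hψe ⟨x, hx⟩ (hAN hx)]
      exact hr.le ⟨_, rfl⟩
  obtain ⟨z₁, hz₁, hzl, hzr'⟩ := hz₀.symm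
  obtain ⟨V₁, hV₁, hV₁N, -⟩ := hz₁.restrict hV'N
  have hμ : F.IsIso V V₁ (fun x => z₁ (f x)) := (hV.mono residual_le).comp hV₁
  have hμA : ∀ y, y ∈ A ↔ ∃ x ∈ A, z₁ (f x) = y := fun y => by
    constructor
    · intro hy
      obtain ⟨x, hx, hxe⟩ := (hfA _).mp ((hzA (z y)).mpr ⟨y, hy, rfl⟩)
      exact ⟨x, hx, by rw [hxe, hzl y (hAN hy)]⟩
    · rintro ⟨x, hx, rfl⟩
      obtain ⟨y, hy, hye⟩ := (hzA (f x)).mp ((hfA _).mpr ⟨x, hx, rfl⟩)
      rwa [← hye, hzl y (hAN hy)]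
  obtain ⟨β, V₀, ν, hβ, hβA, hν, hV₀N, hμe, hνlift⟩ := key hS hF hA hμ hAV.le hVN hV₁N hμA
  -- `ζ = z ∘ β` agrees with the residual on `V₀`
  have hζ : F.IsIso N N' (fun x => z (β x)) := hβ.comp hz₀
  set ζ := fun x => z (β x) with hζdef
  have hζA : ∀ y, y ∈ A' ↔ ∃ x ∈ A, ζ x = y := fun y => by
    rw [hzA y]
    constructor
    · rintro ⟨x, hx, rfl⟩
      obtain ⟨w, hw, rfl⟩ := (hβA x).mp hx
      exact ⟨w, hw, rfl⟩
    · rintro ⟨x, hx, rfl⟩
      exact ⟨β x, (hβA _).mpr ⟨x, hx, rfl⟩, rfl⟩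
  have hζν : ∀ x ∈ V, f x = ζ (ν x) := fun x hx => by
    show f x = z (β (ν x))
    rw [← hμe x hx, hzr' _ (hV'N (hV.mem hx))]
  obtain ⟨ν₁, hν₁, hνl, -⟩ := hν.symm
  have hζ₀ : (residual hS hF).IsIso V₀ V' ζ :=
    ((hν₁.mono core_le_residual).comp hV).congr fun y hy => by
      obtain ⟨x, hx, rfl⟩ := hν.surj hy
      rw [hνl x hx, hζν x hx]
  -- move `V₀` inside the normalizer system to a fully centralized subgroup
  set G := F.normalizerSystem A hA.1 with hG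
  have hAV₀ : A ≤ V₀ := fun y hy => by
    obtain ⟨x, hx, rfl⟩ := (hνlift.1 y).mp hy
    exact hν.mem (hAV.le hx)
  obtain ⟨V₂, ⟨π, hπ, hπr⟩, hV₂⟩ := G.exists_isFullyCentralized hV₀N
  obtain ⟨-, -, -, ψπ, hψπ, hψπe, hψπA⟩ := id hπ
  have hπF : F.IsIso V₀ V₂ (funOf π) := hπr ▸ isIso_funOf hπ.1
  have hπA : ∀ y, y ∈ A ↔ ∃ x ∈ A, funOf π x = y := fun y => by
    constructor
    · intro hy
      obtain ⟨x, hx, rfl⟩ := hψπA.ge hy
      exact ⟨x, hx, (funOf_apply π ⟨(x : Ω), hAV₀ hx⟩).symm.trans (hψπe ⟨(x : Ω), hAV₀ hx⟩).symm⟩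
    · rintro ⟨x, hx, rfl⟩
      rw [← funOf_apply π ⟨x, hAV₀ hx⟩, ← hψπe]
      exact hψπA.le ⟨_, hx, rfl⟩
  obtain ⟨β₂, V₃, ν₂, hβ₂, hβ₂A, hν₂, hV₃N, hπe, hν₂lift⟩ :=
    key hS hF hA hπF hAV₀ hV₀N hV₂.1 hπA
  have hAV₃ : A ≤ V₃ := fun y hy => by
    obtain ⟨x, hx, rfl⟩ := (hν₂lift.1 y).mp hy
    exact hν₂.mem (hAV₀ hx)
  have hV₂₃ : ∀ y, y ∈ V₂ ↔ ∃ x ∈ V₃, β₂ x = y := fun y => by
    constructor
    · intro hy
      obtain ⟨x, hx, rfl⟩ := hπF.surj hy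
      exact ⟨ν₂ x, hν₂.mem hx, (hπe x hx).symm⟩
    · rintro ⟨w, hw, rfl⟩
      obtain ⟨x, hx, rfl⟩ := hν₂.surj hw
      rw [← hπe x hx]
      exact hπF.mem hx
  have hV₃fc : F.IsFullyCentralized V₃ := by
    obtain ⟨B, ⟨ρ, hρ, hρr⟩, hB⟩ := F.exists_isFullyCentralized hν₂.le_right
    refine ⟨hν₂.le_right, fun C hC => le_trans (hB.2 C ((IsConj.symm ⟨ρ, hρ, hρr⟩).trans hC)) ?_⟩
    have hρi : F.IsIso V₃ B (funOf ρ) := hρr ▸ isIso_funOf hρ
    obtain ⟨A'', hA''i, hA''B, hA''m⟩ := hρi.restrict hAV₃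
    obtain ⟨φu, hφu, hur, ψu, hψu, hψuN, hψue⟩ :=
      hF.exists_map_to_fullyNormalized hS hA hA''i.isConj.symm
    have hui := isIso_funOf hψu
    have hA''N : A'' ≤ normalizerIn S A'' := le_normalizerIn hA''i.le_right
    have hBN : B ≤ normalizerIn S A'' := fun y hy => by
      obtain ⟨x, hx, rfl⟩ := hρi.surj hy
      exact ⟨hρi.le_right hy, hρi.mem_normalizer hAV₃ hA''m hx (hV₃N hx).2⟩
    obtain ⟨B', hB'i, hB'U, hB'm⟩ := hui.restrict hBN
    have hUN : ψu.range ≤ N := by rintro _ ⟨x, rfl⟩; exact hψuN x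
    -- `V₂` and `B'` are conjugate in the normalizer system
    obtain ⟨β₃, hβ₃, hβl, hβr⟩ := hβ₂.symm
    have hV₂V₃ : F.IsIso V₂ V₃ β₃ := hβ₃.restrict' hV₂.1 fun y => by
      constructor
      · intro hy
        exact ⟨β₂ y, (hV₂₃ _).mpr ⟨y, hy, rfl⟩, hβl y (hV₃N hy)⟩
      · rintro ⟨x, hx, rfl⟩
        obtain ⟨w, hw, rfl⟩ := (hV₂₃ x).mp hx
        rwa [hβl w (hV₃N hw)]
    have hall := (hV₂V₃.comp hρi).comp hB'i
    obtain ⟨χ, hχ, hχr, hχe⟩ := id hall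
    have hAV₂ : A ≤ V₂ := fun y hy => by
      obtain ⟨x, hx, rfl⟩ := (hπA y).mp hy
      exact hπF.mem (hAV₀ hx)
    have hsup : V₂ ⊔ A ≤ V₂ := sup_le le_rfl hAV₂
    have hmem : ∀ x ∈ A, funOf ψu (funOf ρ (β₃ x)) ∈ A := fun x hx => by
      obtain ⟨w, hw, rfl⟩ := (hβ₂A x).mp hx
      have h2 : funOf ρ w ∈ A'' := (hA''m _).mpr ⟨w, hw, rfl⟩
      rw [hβl w (hAN hw), ← funOf_apply ψu ⟨_, hA''N h2⟩, hψue ⟨_, h2⟩ (hA''N h2)]
      exact hur.le ⟨_, rfl⟩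
    have hχG : χ ∈ G.Hom V₂ := by
      refine ⟨hχ, hV₂.1, fun x => ?_, χ.comp (Subgroup.inclusion hsup), F.restrict_mem hχ hsup, fun x => rfl, ?_⟩
      · rw [hχe]
        exact hUN (hui.mem (hBN (hρi.mem (hV₂V₃.mem x.2))))
      · obtain ⟨A₂, hA₂i, -, hA₂m⟩ := hall.restrict hAV₂
        obtain rfl : A₂ = A := hA₂i.eq_of_le hA.1 (fun y hy => by
          obtain ⟨x, hx, rfl⟩ := (hA₂m y).mp hy
          exact hmem x hx) le_rfl
        ext y
        rw [hA₂m y]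
        constructor
        · rintro ⟨x, hx, rfl⟩
          exact ⟨x, hx, (hχe (Subgroup.inclusion hsup x)).symm⟩
        · rintro ⟨x, hx, rfl⟩
          exact ⟨⟨x, Subgroup.mem_sup_right hx⟩, hx, hχe _⟩
    have h1 := hV₂.2 B' ⟨χ, hχG, hχr⟩
    -- compare the centralisers
    have hCB : centralizerIn S B ≤ normalizerIn S A'' := centralizerIn_le_normalizerIn' hA''B
    calc Nat.card (centralizerIn S B) ≤ Nat.card (centralizerIn N B') := by
          haveI := finite_centralizerIn (S := N) (P := B')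
          refine Nat.card_le_card_of_injective (fun x : centralizerIn S B =>
            (⟨funOf ψu x, hUN (hui.mem (hCB x.2)), hui.mem_centralizer hBN hB'm (hCB x.2) x.2.2⟩ :
              centralizerIn N B')) fun x y hxy => ?_
          exact Subtype.ext (hui.inj (hCB x.2) (hCB y.2) (congrArg Subtype.val hxy))
      _ ≤ Nat.card (centralizerIn N V₂) := h1
      _ ≤ Nat.card (centralizerIn S V₃) := by
          haveI := finite_centralizerIn (S := S) (P := V₃)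
          have hm : ∀ y, y ∈ V₃ ↔ ∃ x ∈ V₂, β₃ x = y := fun y => ⟨fun hy => hV₂V₃.surj hy,
            fun ⟨x, hx, he⟩ => he ▸ hV₂V₃.mem hx⟩
          refine Nat.card_le_card_of_injective (fun x : centralizerIn N V₂ =>
            (⟨β₃ x, hβ₃.le_right (hβ₃.mem x.2.1), hβ₃.mem_centralizer hV₂.1 hm x.2.1 x.2.2⟩ :
              centralizerIn S V₃)) fun x y hxy => ?_
          exact Subtype.ext (hβ₃.inj x.2.1 y.2.1 (congrArg Subtype.val hxy))
  -- `ζ` agrees with the residual on `V₃` as well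
  obtain ⟨c, N₀, c₀, hc, hc₀, hce, hN'₀⟩ := frattini hS hF hζ
  obtain ⟨X₀, hX₀, hX₀N, hX₀m⟩ := hc₀.restrict hV₀N
  obtain ⟨X₃, hX₃, hX₃N, hX₃m⟩ := hc₀.restrict hV₃N
  obtain ⟨d₀, hd₀, hdl, -⟩ := hX₀.symm
  have hθ := (hd₀.comp hν₂).comp hX₃
  set θ := fun x => c₀ (ν₂ (d₀ x)) with hθdef
  obtain ⟨Y₀, -, -, hY₀⟩ := hc.restrict hX₀.le_right
  obtain ⟨Y₃, hY₃i, -, hY₃⟩ := hc.restrict hX₃.le_right
  obtain ⟨θ', hθ', hθ'e⟩ := invariant hS hF hc hθ hY₀ hY₃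
  obtain rfl : Y₀ = V' := by
    ext y
    rw [hY₀]
    constructor
    · rintro ⟨x, hx, rfl⟩
      obtain ⟨v, hv, rfl⟩ := (hX₀m x).mp hx
      rw [← hce v (hV₀N hv)]
      exact hζ₀.mem hv
    · intro hy
      obtain ⟨v, hv, rfl⟩ := hζ₀.surj hy
      exact ⟨c₀ v, (hX₀m _).mpr ⟨v, hv, rfl⟩, (hce v (hV₀N hv)).symm⟩
  obtain ⟨θ₁, hθ₁, hθl, -⟩ := hθ.symm
  have hcX₀ : (residual hS hF).IsIso X₀ Y₀ c := ((hd₀.mono core_le_residual).comp hζ₀).congr fun x hx => by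
    obtain ⟨v, hv, rfl⟩ := (hX₀m x).mp hx
    rw [hdl v hv, hce v (hV₀N hv)]
  have hcX₃ : (residual hS hF).IsIso X₃ Y₃ c :=
    (((hθ₁.mono core_le_residual).comp hcX₀).comp (hθ'.mono core_le_residual)).congr fun x hx => by
      obtain ⟨w, hw, rfl⟩ := hθ.surj hx
      show c (c₀ (ν₂ (d₀ w))) = θ' (c (θ₁ (c₀ (ν₂ (d₀ w)))))
      rw [hθl w hw]
      exact (hθ'e w hw).symm
  have hρ : (residual hS hF).IsIso V₃ Y₃ ζ := ((hX₃.mono core_le_residual).comp hcX₃).congr fun x hx =>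
    hce x (hV₃N hx)
  have hζV₃ : ∀ y, y ∈ Y₃ ↔ ∃ x ∈ V₃, ζ x = y := fun y => ⟨fun hy => hρ.surj hy,
    fun ⟨x, hx, he⟩ => he ▸ hρ.mem hx⟩
  have hCV₃ : centralizerIn S V₃ ≤ N := centralizerIn_le_normalizerIn' hAV₃
  have hY₃fc := fullyCentralized_image hζ hV₃N hCV₃ hζV₃ hV₃fc
  have hlt : Nat.card A < Nat.card V₃ := by
    rw [← hν₂.card_eq, ← hν.card_eq]
    exact card_lt_of_lt hAV
  obtain ⟨w, hw, hwe⟩ := ih _ hlt V₃ Y₃ ζ rfl hV₃fc hY₃fc hρ
  have hAY₃ : A' ≤ Y₃ := fun y hy => by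
    obtain ⟨x, hx, rfl⟩ := (hζA y).mp hy
    exact hρ.mem (hAV₃ hx)
  have hY₃N : Y₃ ≤ N' := fun y hy => by
    obtain ⟨x, hx, rfl⟩ := hρ.surj hy
    exact hζ.mem (hV₃N hx)
  obtain ⟨ζ₁, hζ₁, hζl, hζr⟩ := hζ.symm
  have hextN' : ext S Y₃ ≤ N' := sup_le hY₃N (centralizerIn_le_normalizerIn' hAY₃)
  obtain ⟨L₁, hL₁, hL₁N, -⟩ := hζ₁.restrict hextN'
  have hξ : F.IsIso (ext S V₃) L₁ (fun x => ζ₁ (w x)) := (hw.mono residual_le).comp hL₁
  have hξA : ∀ y, y ∈ A ↔ ∃ x ∈ A, ζ₁ (w x) = y := fun y => by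
    constructor
    · intro hy
      exact ⟨y, hy, by rw [hwe y (hAV₃ hy), hζl y (hAN hy)]⟩
    · rintro ⟨x, hx, rfl⟩
      rwa [hwe x (hAV₃ hx), hζl x (hAN hx)]
  obtain ⟨β₄, L₀, ν₄, hβ₄, hβ₄A, hν₄, hL₀N, hξe, hν₄A, w₄, hw₄, hw₄e⟩ :=
    key hS hF hA hξ (hAV₃.trans le_sup_left) (sup_le hV₃N hCV₃) hL₁N hξA
  obtain ⟨ν₅, hν₅, hν₅l, -⟩ := hν₄.symm
  have hL₀c : F.IsCentric L₀ := (ext_isCentric hV₃fc).of_isConj (hν₄.mono core_le).isConj
  have hres₄ : (residual hS hF).IsIso L₀ (ext S Y₃) (fun x => ζ (β₄ x)) :=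
    ((hν₅.mono core_le_residual).comp hw).congr fun y hy => by
      obtain ⟨x, hx, rfl⟩ := hν₄.surj hy
      rw [hν₅l x hx, ← hξe x hx, hζr _ (hextN' (hw.mem hx))]
  have hfull := iso_of_centric hL₀c hL₀N (hβ₄.comp hζ) hres₄
  have hextN : ext S A ≤ N := ext_le_normalizerIn hA.1
  have hA'm : ∀ y, y ∈ A' ↔ ∃ x ∈ A, ζ (β₄ x) = y := fun y => by
    rw [hζA y]
    constructor
    · rintro ⟨x, hx, rfl⟩
      obtain ⟨v, hv, rfl⟩ := (hβ₄A x).mp hx
      exact ⟨v, hv, rfl⟩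
    · rintro ⟨x, hx, rfl⟩
      exact ⟨β₄ x, (hβ₄A _).mpr ⟨x, hx, rfl⟩, rfl⟩
  have hrA := restrict_ext residual_le hfull hextN hA'm hfc
  obtain ⟨hνA, w₁, hw₁, hw₁e⟩ := hνlift
  refine ⟨_, ((hw₁.mono core_le_residual).comp (hw₄.mono core_le_residual)).comp hrA, fun x hx => ?_⟩
  show ζ (β₄ (w₄ (w₁ x))) = f x
  have hνx : ν x ∈ A := (hνA _).mpr ⟨x, hx, rfl⟩
  rw [hw₁e x hx, hw₄e _ hνx, ← hξe _ (Subgroup.mem_sup_left (hAV₃ hνx)), hwe _ (hAV₃ hνx),
    hζl _ (hAN hνx), hζν x (hAV.le hx)]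

/-- Extension of `a' f a⁻¹` for all choices of moves of `X` and `X'`. -/
def Good (hS : IsPGroup p S) (hF : F.IsSaturated p) (X X' : Subgroup Ω) (f : Ω → Ω) : Prop :=
  ∀ (A A' : Subgroup Ω) (a a' : Ω → Ω), Move hS hF X A a → Move hS hF X' A' a' →
    ∃ w, (residual hS hF).IsIso (ext S A) (ext S A') w ∧ ∀ x ∈ X, w (a x) = a' (f x)

/-- Restrictions of residual maps are good. -/
theorem good_restrict {n : ℕ} (ih : ∀ m, n < m → Extends hS hF m) (h : (residual hS hF).IsIso R V' f)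
    (hXR : X ≤ R) (hn : Nat.card X = n) (hX' : ∀ y, y ∈ X' ↔ ∃ x ∈ X, f x = y)
    (hbig : X < R ∨ F.IsCentric X) : Good hS hF X X' f := by
  rintro A A' a a' ⟨hA, hAm, U, ha, hUN⟩ ⟨hA', hA'm, U', ha', hU'N⟩
  have hXS : X ≤ S := hXR.trans h.le_left
  have hX'S : X' ≤ S := fun y hy => by
    obtain ⟨x, hx, rfl⟩ := (hX' y).mp hy
    exact h.le_right (h.mem (hXR hx))
  have hXN : X ≤ normalizerIn S X := le_normalizerIn hXS
  have hX'N : X' ≤ normalizerIn S X' := le_normalizerIn hX'S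
  set V := normalizerIn R X with hVdef
  have hXV : X ≤ V := le_normalizerIn hXR
  have hVN : V ≤ normalizerIn S X := fun y hy => ⟨h.le_left hy.1, hy.2⟩
  obtain ⟨M, hfM, -, hM⟩ := h.restrict (normalizerIn_le : V ≤ R)
  have hMN : M ≤ normalizerIn S X' := fun y hy => by
    obtain ⟨x, hx, rfl⟩ := (hM y).mp hy
    exact ⟨h.le_right (h.mem hx.1), h.mem_normalizer hXR hX' hx.1 hx.2⟩
  obtain ⟨a₁, ha₁, hal, -⟩ := ha.symm
  obtain ⟨V₀, hV₀, hV₀U, hV₀m⟩ := ha.restrict hVN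
  obtain ⟨b₁, hb₁, hbl, -⟩ := hV₀.symm
  obtain ⟨M', hM', hM'U, hM'm⟩ := ha'.restrict hMN
  have hlam := (hb₁.comp hfM).comp hM'
  have hval : ∀ x ∈ X, a' (f (b₁ (a x))) = a' (f x) := fun x hx => by rw [hbl x (hXV hx)]
  have hlamA : ∀ y, y ∈ A' ↔ ∃ z ∈ A, a' (f (b₁ z)) = y := fun y => by
    constructor
    · intro hy
      obtain ⟨x', hx', rfl⟩ := (hA'm y).mp hy
      obtain ⟨x, hx, rfl⟩ := (hX' x').mp hx'
      exact ⟨a x, (hAm _).mpr ⟨x, hx, rfl⟩, hval x hx⟩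
    · rintro ⟨z, hz, rfl⟩
      obtain ⟨x, hx, rfl⟩ := (hAm z).mp hz
      rw [hval x hx]
      exact (hA'm _).mpr ⟨_, (hX' _).mpr ⟨x, hx, rfl⟩, rfl⟩
  have hAV₀ : A ≤ V₀ := fun y hy => by
    obtain ⟨x, hx, rfl⟩ := (hAm y).mp hy
    exact hV₀.mem (hXV hx)
  have haX : (residual hS hF).IsIso X A a := ha.restrict' hXN hAm
  have hcardA : Nat.card A = n := haX.card_eq.symm.trans hn
  by_cases hlt : A < V₀
  · obtain ⟨w, hw, hwe⟩ := restriction_extends (fun m hm => ih m (hcardA ▸ hm)) hA hA' hlam hlt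
      (hV₀U.trans hUN) (hM'U.trans hU'N) hlamA
    exact ⟨w, hw, fun x hx => (hwe _ ((hAm _).mpr ⟨x, hx, rfl⟩)).trans (hval x hx)⟩
  · have heq : A = V₀ := eq_of_le_of_not_lt hAV₀ hlt
    have hXc : F.IsCentric X := by
      rcases hbig with hb | hc
      · exfalso
        haveI := finite_of_le h.le_left
        haveI := finite_of_le (normalizerIn_le.trans h.le_left : normalizerIn R X ≤ S)
        have hcard := card_lt_of_lt (lt_normalizerIn (hS.to_le h.le_left) hb)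
        haveI := finite_of_le hV₀.le_right
        rw [hn, ← hVdef, hV₀.card_eq, ← heq, hcardA] at hcard
        exact lt_irrefl _ hcard
      · exact hc
    have hAc : F.IsCentric A := hXc.of_isConj (haX.mono residual_le).isConj
    have hextA : ext S A = A := sup_eq_left.mpr hAc.centralizerIn_le_self
    subst heq
    obtain ⟨A₁, hlamA', -, hm⟩ := hlam.restrict le_rfl
    obtain rfl : A' = A₁ := Subgroup.ext fun y => (hlamA y).trans (hm y).symm
    have hextA' : ext S A' = A' :=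
      sup_eq_left.mpr (hAc.of_isConj (hlamA'.mono residual_le).isConj).centralizerIn_le_self
    refine ⟨_, by rw [hextA, hextA']; exact hlamA', fun x hx => hval x hx⟩

/-- Maps of the core all of whose restrictions to subgroups of order `n` are good. -/
def goodSystem (hS : IsPGroup p S) (hF : F.IsSaturated p) (n : ℕ) (hn : n < Nat.card S)
    (ih : ∀ m, n < m → Extends hS hF m) : FusionSystem S where
  Hom P := {φ | φ ∈ (ampleCore F p).Hom P ∧ ∀ X X' : Subgroup Ω, X ≤ P → Nat.card X = n →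
    (∀ y, y ∈ X' ↔ ∃ x ∈ X, funOf φ x = y) → Good hS hF X X' (funOf φ)}
  le_of_mem h := (ampleCore F p).le_of_mem h.1
  injective_of_mem h := (ampleCore F p).injective_of_mem h.1
  conj_mem := by
    intro P g hP hg
    refine ⟨(ampleCore F p).conj_mem hP hg, fun X X' hX hXn hX' => ?_⟩
    have he : ∀ x ∈ X, funOf (conjHom P g) x = g * x * g⁻¹ := fun x hx =>
      (funOf_apply (conjHom P g) ⟨x, hX hx⟩).symm
    have hgood := good_restrict (hS := hS) (hF := hF) (f := fun x => g * x * g⁻¹) (X := X) (X' := X') ih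
      (isIso_conj (le_refl S) hg) (hX.trans hP) hXn (fun y => by
        rw [hX' y]
        constructor <;> rintro ⟨x, hx, e⟩ <;> refine ⟨x, hx, ?_⟩
        · exact (he x hx).symm.trans e
        · exact (he x hx).trans e)
      (Or.inl (lt_of_le_of_ne (hX.trans hP) fun e => absurd hXn (by rw [e]; omega)))
    intro A A' a a' hAa hA'a'
    obtain ⟨w, hw, hwe⟩ := hgood A A' a a' hAa hA'a'
    exact ⟨w, hw, fun x hx => (hwe x hx).trans (congrArg a' (he x hx).symm)⟩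
  comp_mem := by
    rintro P R φ ψ ⟨hφ, hφg⟩ ⟨hψ, hψg⟩ hh
    refine ⟨(ampleCore F p).comp_mem hφ hψ hh, fun X X'' hX hXn hX'' => ?_⟩
    have hφi := isIso_funOf hφ
    obtain ⟨X', hXX', -, hX'⟩ := hφi.restrict hX
    have hval : ∀ x ∈ X, funOf (ψ.comp (φ.codRestrict R hh)) x = funOf ψ (funOf φ x) := fun x hx => by
      rw [← funOf_apply (ψ.comp (φ.codRestrict R hh)) ⟨x, hX hx⟩]
      show ψ ⟨φ ⟨x, hX hx⟩, _⟩ = _
      rw [funOf_apply ψ]
      exact congrArg (funOf ψ) (funOf_apply φ ⟨x, hX hx⟩)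
    have hX'R : X' ≤ R := fun y hy => by
      obtain ⟨x, hx, rfl⟩ := (hX' y).mp hy
      rw [← funOf_apply φ ⟨x, hX hx⟩]
      exact hh _
    have h1 := hφg X X' hX hXn hX'
    have h2 := hψg X' X'' hX'R (hXX'.card_eq.symm.trans hXn) fun y => by
      rw [hX'' y]
      constructor
      · rintro ⟨x, hx, rfl⟩
        exact ⟨_, (hX' _).mpr ⟨x, hx, rfl⟩, (hval x hx).symm⟩
      · rintro ⟨z, hz, rfl⟩
        obtain ⟨x, hx, rfl⟩ := (hX' z).mp hz
        exact ⟨x, hx, hval x hx⟩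
    intro A A'' a a'' hAa hA''
    obtain ⟨A', a', hA'⟩ := exists_move (hS := hS) (hF := hF) hXX'.le_right
    obtain ⟨w, hw, hwe⟩ := h1 A A' a a' hAa hA'
    obtain ⟨v, hv, hve⟩ := h2 A' A'' a' a'' hA' hA''
    refine ⟨_, hw.comp hv, fun x hx => ?_⟩
    show v (w (a x)) = _
    rw [hwe x hx, hve _ ((hX' _).mpr ⟨x, hx, rfl⟩), hval x hx]
  inv_mem := by
    rintro P φ ⟨hφ, hφg⟩
    obtain ⟨ψ, hψ, hψe⟩ := (ampleCore F p).inv_mem hφ
    refine ⟨ψ, ⟨hψ, fun X' X hX' hn' hX => ?_⟩, hψe⟩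
    have hl : ∀ x ∈ P, funOf ψ (funOf φ x) = x := fun x hx => by
      rw [← funOf_apply φ ⟨x, hx⟩]
      exact (funOf_apply ψ ⟨φ ⟨x, hx⟩, ⟨x, hx⟩, rfl⟩).symm.trans (hψe ⟨x, hx⟩)
    have hψi := isIso_funOf hψ
    obtain ⟨X₁, hXi, -, hm⟩ := hψi.restrict hX'
    obtain rfl : X = X₁ := Subgroup.ext fun y => (hX y).trans (hm y).symm
    have hXP : X ≤ P := fun y hy => by
      obtain ⟨z, hz, rfl⟩ := (hX y).mp hy
      obtain ⟨x, rfl⟩ := hX' hz
      rw [funOf_apply φ x, hl x x.2]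
      exact x.2
    have h1 := hφg X X' hXP (hXi.card_eq.symm.trans hn') fun y => by
      constructor
      · intro hy
        obtain ⟨x, rfl⟩ := hX' hy
        refine ⟨x, (hX _).mpr ⟨φ x, hy, ?_⟩, (funOf_apply φ x).symm⟩
        rw [funOf_apply φ x, hl x x.2]
      · rintro ⟨x, hx, rfl⟩
        obtain ⟨z, hz, rfl⟩ := (hX x).mp hx
        obtain ⟨u, rfl⟩ := hX' hz
        rw [funOf_apply φ u, hl u u.2, ← funOf_apply φ u]
        exact hz
    intro A' A a' a hA' hA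
    obtain ⟨w, hw, hwe⟩ := h1 A A' a a' hA hA'
    obtain ⟨v, hv, hvl, -⟩ := hw.symm
    refine ⟨v, hv, fun z hz => ?_⟩
    obtain ⟨x, rfl⟩ := hX' hz
    have hxX : (x : Ω) ∈ X := (hX _).mpr ⟨φ x, hz, by rw [funOf_apply φ x, hl x x.2]⟩
    rw [funOf_apply φ x, hl x x.2, ← hwe x hxX]
    obtain ⟨-, hAm, U, haU, -⟩ := hA
    exact hvl _ (Subgroup.mem_sup_left ((hAm _).mpr ⟨x, hxX, rfl⟩))

theorem extends_all : ∀ n, Extends hS hF n := by
  suffices ∀ d n, Nat.card S - n = d → Extends hS hF n from fun n => this _ n rfl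
  intro d
  induction d using Nat.strong_induction_on with
  | _ d ihd =>
  intro n hd B B' r hn hB hB' hr
  rcases lt_or_ge n (Nat.card S) with hlt | hge
  swap
  · have hBS : B = S := Subgroup.eq_of_le_of_card_ge hB.1 (hn ▸ hge)
    have hB'S : B' = S := Subgroup.eq_of_le_of_card_ge hB'.1 (hr.card_eq ▸ hn ▸ hge)
    have he : ext S B = B := sup_eq_left.mpr ((centralizerIn_le).trans hBS.ge)
    have he' : ext S B' = B' := sup_eq_left.mpr ((centralizerIn_le).trans hB'S.ge)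
    exact ⟨r, by rw [he, he']; exact hr, fun x _ => rfl⟩
  have ih : ∀ m, n < m → Extends hS hF m := fun m hm => ihd (Nat.card S - m) (by omega) m rfl
  have hY : IsAmple F p (goodSystem hS hF n hlt ih) := by
    refine ⟨fun P φ hφ => hφ.1.1, fun P hP => ?_⟩
    rw [Subgroup.map_le_iff_le_comap]
    refine (Subgroup.closure_le _).mpr fun a ha => ?_
    obtain ⟨k, hk⟩ := ha
    obtain ⟨f, hf, hfe⟩ := isIso_of_pElement hS hF hP.1 a.2 ⟨k, by rw [Subgroup.orderOf_coe]; exact hk⟩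
    refine ((goodSystem hS hF n hlt ih).mem_autGroup_iff hP.1).mpr
      ⟨mem_hom_of_isIso hf fun x => hfe x, fun X X' hX hXn hX' => ?_⟩
    have he : ∀ x ∈ X, funOf (P.subtype.comp (a : MulAut P).toMonoidHom) x = f x := fun x hx =>
      (funOf_apply (P.subtype.comp (a : MulAut P).toMonoidHom) ⟨x, hX hx⟩).symm.trans (hfe ⟨x, hX hx⟩)
    have hgood := good_restrict (hS := hS) (hF := hF) (X := X) (X' := X') ih (hf.mono core_le_residual) hX hXn
      (fun y => by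
        rw [hX' y]
        constructor <;> rintro ⟨x, hx, e⟩ <;> refine ⟨x, hx, ?_⟩
        · exact (he x hx).symm.trans e
        · exact (he x hx).trans e)
      (by rcases eq_or_lt_of_le hX with rfl | h
          · exact Or.inr hP
          · exact Or.inl h)
    intro A A' a₀ a' hAa hA'
    obtain ⟨w, hw, hwe⟩ := hgood A A' a₀ a' hAa hA'
    exact ⟨w, hw, fun x hx => (hwe x hx).trans (congrArg a' (he x hx).symm)⟩
  -- write `r` as an automorphism of `S` after a map of the core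
  obtain ⟨φ, ⟨hφF, c, Q, f₀, hc, hf₀, hφe⟩, hφr, hre⟩ := id hr
  obtain ⟨ψ, hψ, hψr, hψe⟩ := id hf₀
  have hBS : B < S := lt_of_le_of_ne hB.1 fun e => by rw [e] at hn; omega
  have hgψ : Good hS hF B Q (funOf ψ) := (hψ.2 _ hY).2 B Q le_rfl hn fun y => by
    constructor
    · intro hy
      obtain ⟨x, hx, rfl⟩ := hf₀.surj hy
      exact ⟨x, hx, (funOf_apply ψ ⟨x, hx⟩).symm.trans (hψe ⟨x, hx⟩)⟩
    · rintro ⟨x, hx, rfl⟩
      rw [← funOf_apply ψ ⟨x, hx⟩, hψe]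
      exact hf₀.mem hx
  have hB'm : ∀ y, y ∈ B' ↔ ∃ x ∈ Q, c x = y := fun y => by
    constructor
    · intro hy
      obtain ⟨x, rfl⟩ := hφr.ge hy
      exact ⟨f₀ x, hf₀.mem x.2, (hφe x).symm⟩
    · rintro ⟨z, hz, rfl⟩
      obtain ⟨x, hx, rfl⟩ := hf₀.surj hz
      exact hφr.le ⟨⟨x, hx⟩, hφe _⟩
  have hQn : Nat.card Q = n := hf₀.card_eq.symm.trans hn
  have hgc : Good hS hF Q B' c := good_restrict (hS := hS) (hF := hF) ih hc.mem_residual hf₀.le_right hQn hB'm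
    (Or.inl (lt_of_le_of_ne hf₀.le_right fun e => by rw [e] at hQn; omega))
  obtain ⟨A, a, hAa⟩ := exists_move (hS := hS) (hF := hF) hB.1
  obtain ⟨A₁, a₁, hA₁⟩ := exists_move (hS := hS) (hF := hF) hf₀.le_right
  obtain ⟨A', a', hA'a'⟩ := exists_move (hS := hS) (hF := hF) hB'.1
  obtain ⟨w₁, hw₁, hw₁e⟩ := hgψ A A₁ a a₁ hAa hA₁
  obtain ⟨w₂, hw₂, hw₂e⟩ := hgc A₁ A' a₁ a' hA₁ hA'a'
  obtain ⟨hAfn, hAm, U, ha, hUN⟩ := hAa
  obtain ⟨hA'fn, hA'm, U', ha', hU'N⟩ := hA'a'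
  have hBN : ext S B ≤ normalizerIn S B := ext_le_normalizerIn hB.1
  have hB'N : ext S B' ≤ normalizerIn S B' := ext_le_normalizerIn hB'.1
  have h₁ := restrict_ext residual_le ha hBN hAm hB
  have h₂ := restrict_ext residual_le ha' hB'N hA'm hB'
  obtain ⟨g₂, hg₂, hgl, -⟩ := h₂.symm
  refine ⟨_, ((h₁.comp hw₁).comp hw₂).comp hg₂, fun x hx => ?_⟩
  show g₂ (w₂ (w₁ (a x))) = r x
  have e₁ : funOf ψ x = f₀ x := (funOf_apply ψ ⟨x, hx⟩).symm.trans (hψe ⟨x, hx⟩)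
  have e₂ : c (f₀ x) = r x := (hφe ⟨x, hx⟩).symm.trans (hre ⟨x, hx⟩)
  rw [hw₁e x hx, e₁, hw₂e _ (hf₀.mem hx), e₂]
  exact hgl _ (Subgroup.mem_sup_left (hr.mem hx))

theorem residual_isSaturated : (residual hS hF).IsSaturated p := by
  intro P hP
  obtain ⟨A, a, hA, hAm, U, ha, hUN⟩ := exists_move (hS := hS) (hF := hF) hP
  obtain ⟨A₁, hPA, -, hm⟩ := ha.restrict (le_normalizerIn hP)
  obtain rfl : A = A₁ := Subgroup.ext fun y => (hAm y).trans (hm y).symm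
  set O := residual hS hF with hO
  haveI := finite_of_le hA.1
  haveI := finite_autGroup (F := F) hA.1
  haveI := finite_autGroup (F := O) hA.1
  refine ⟨A, hPA.isConj, ⟨hA.1, ?_⟩, hA.1, ?_⟩
  · -- fully automized
    obtain ⟨-, T, hT⟩ := hF.isFullyAutomized_of_isFullyNormalized hS hA
    have hIO : autInducedBy S A ≤ O.autGroup A := autInducedBy_le_autGroup hA.1
    have hOF : O.autGroup A ≤ F.autGroup A := fun α hα => residual_le.isIso_autGroup hA.1 hα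
    have hidx : ¬ p ∣ ((autInducedBy S A).subgroupOf (O.autGroup A)).index := by
      intro hp
      have h1 : (autInducedBy S A).relIndex (O.autGroup A) ∣ (autInducedBy S A).relIndex (F.autGroup A) :=
        ⟨_, (Subgroup.relIndex_mul_relIndex _ _ _ hIO hOF).symm⟩
      have h2 : p ∣ (T : Subgroup (F.autGroup A)).index := by
        rw [hT]
        exact (hp.trans h1 :)
      exact T.not_dvd_index h2
    have hp' : IsPGroup p ↥((autInducedBy S A).subgroupOf (O.autGroup A)) :=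
      (isPGroup_autInducedBy hS).comap_of_injective _ (O.autGroup A).subtype_injective
    exact ⟨hp'.toSylow hidx, rfl⟩
  · -- receptive
    intro P' χ hχ hr
    have hP' : P' ≤ S := O.source_le hχ
    have hχi : O.IsIso P' A (funOf χ) := hr ▸ isIso_funOf hχ
    obtain ⟨A₀, a₀, hA₀, hA₀m, U₀, ha₀, hU₀N⟩ := exists_move (hS := hS) (hF := hF) hP'
    have hPN : P' ≤ normalizerIn S P' := le_normalizerIn hP'
    obtain ⟨a₀', hiso₀, -, hm₀⟩ := ha₀.restrict hPN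
    obtain rfl : A₀ = a₀' := Subgroup.ext fun y => (hA₀m y).trans (hm₀ y).symm
    obtain ⟨t, ht, htl, -⟩ := hiso₀.symm
    have hχ' := ht.comp hχi
    set χ' := fun y => funOf χ (t y) with hχ'def
    have hA₀c := hF.isFullyCentralized_of_isFullyNormalized hS hA₀
    have hAc := hF.isFullyCentralized_of_isFullyNormalized hS hA
    obtain ⟨w, hw, hwe⟩ := extends_all (hS := hS) (hF := hF) _ A₀ A χ' rfl hA₀c hAc hχ'
    obtain ⟨φ', hφ', hφ'r, hφ'e⟩ := id hχ'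
    set N₂ := extender S A₀ φ' with hN₂
    have hφS : ∀ x, φ' x ∈ S := O.apply_mem hφ'
    have hN₂N : N₂ ≤ normalizerIn S A₀ := extender_le_normalizerIn hφS
    have hWN₂ : ext S A₀ ≤ N₂ := sup_le (le_extender hA₀.1 hφS) (centralizerIn_le_extender hφS)
    have hAN₂ : A₀ ≤ N₂ := le_extender hA₀.1 hφS
    obtain ⟨ψ, N₂', hψ, hψe⟩ := (hF.isReceptive_of_isFullyNormalized hS hA).extend (hχ'.mono residual_le)
      (hN₂N.trans normalizerIn_le) hAN₂ (fun g hg => (hN₂N hg).2) fun g hg => by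
        obtain ⟨-, hgn, k, hk, hke⟩ := (mem_extender_iff hφS).mp hg
        refine ⟨k, hk, fun x hx => ?_⟩
        have hgx := (Subgroup.mem_normalizer_iff.mp hgn x).mp hx
        have h1 := hke ⟨x, hx⟩ hgx
        rwa [hφ'e, hφ'e] at h1
    have hψA : ∀ y, y ∈ A ↔ ∃ x ∈ A₀, ψ x = y := fun y => by
      constructor
      · intro hy
        obtain ⟨x, hx, rfl⟩ := hχ'.surj hy
        exact ⟨x, hx, hψe x hx⟩
      · rintro ⟨x, hx, rfl⟩
        rw [hψe x hx]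
        exact hχ'.mem hx
    have hψW := restrict_ext (E := F) (fun _ _ h => h) hψ hWN₂ hψA hA₀c
    obtain ⟨w₁, hw₁, hw₁l, hw₁r⟩ := hw.symm
    have hξ : F.IsIso (ext S A₀) (ext S A₀) (fun x => w₁ (ψ x)) := hψW.comp (hw₁.mono residual_le)
    have hξA : ∀ x ∈ A₀, w₁ (ψ x) = x := fun x hx => by
      rw [hψe x hx, ← hwe x hx, hw₁l x (Subgroup.mem_sup_left hx)]
    obtain ⟨o, k, ho, hk, hkA, hko⟩ := split_fixing hS hF hA₀ hWN₂ hN₂N hξ hξA
    obtain ⟨k₁, hk₁, hk₁l, -⟩ := hk.symm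
    have hres : O.IsIso (ext S A₀) (ext S A) (fun x => ψ (k₁ x)) := by
      refine ((ho.mono core_le_residual).comp hw).congr fun y hy => ?_
      obtain ⟨K, hkW, -, hKm⟩ := hk.restrict hWN₂
      obtain rfl : K = ext S A₀ := hkW.eq_of_le (ext_le hA₀.1) (fun z hz => by
        obtain ⟨x, hx, rfl⟩ := (hKm z).mp hz; exact (hko x hx).1) le_rfl
      obtain ⟨x, hx, rfl⟩ := hkW.surj hy
      rw [hk₁l x (hWN₂ hx), ← (hko x hx).2, hw₁r _ (hψW.mem hx)]
    have hfull := iso_of_centric (ext_isCentric hA₀c) hWN₂ (hk₁.comp hψ) hres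
    have hle : ∀ g ∈ extender S P' χ, g ∈ normalizerIn S P' ∧ a₀ g ∈ N₂ := by
      intro g hg
      have hgN := extender_le_normalizerIn (O.apply_mem hχ) hg
      refine ⟨hgN, (mem_extender_iff hφS).mpr ?_⟩
      obtain ⟨-, hgn, k', hk', hk'e⟩ := (mem_extender_iff (O.apply_mem hχ)).mp hg
      refine ⟨ha₀.le_right (ha₀.mem hgN), ha₀.mem_normalizer hPN hA₀m hgN hgn, k', hk', fun y hy => ?_⟩
      obtain ⟨x, hx, hxe⟩ := (hA₀m _).mp y.2
      have hgx : g * x * g⁻¹ ∈ P' := (Subgroup.mem_normalizer_iff.mp hgn x).mp hx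
      rw [hφ'e, hφ'e]
      show funOf χ (t (a₀ g * (y : Ω) * (a₀ g)⁻¹)) = k' * funOf χ (t (y : Ω)) * k'⁻¹
      rw [← hxe, ← ha₀.apply_conj hgN (hPN hx), htl _ hgx, htl x hx, ← funOf_apply χ ⟨_, hgx⟩,
        ← funOf_apply χ ⟨x, hx⟩]
      exact hk'e ⟨x, hx⟩ hgx
    obtain ⟨D, hD, -, hDm⟩ := ha₀.restrict (fun g hg => (hle g hg).1 : extender S P' χ ≤ normalizerIn S P')
    obtain ⟨E₂, hE₂, -, -⟩ := hfull.restrict (fun y hy => by
      obtain ⟨g, hg, rfl⟩ := (hDm y).mp hy; exact (hle g hg).2 : D ≤ N₂)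
    obtain ⟨ω, hω, -, hωe⟩ := hD.comp hE₂
    refine ⟨ω, hω, fun x hx hN => ?_⟩
    rw [hωe]
    show ψ (k₁ (a₀ x)) = _
    have hax : a₀ x ∈ A₀ := (hA₀m _).mpr ⟨x, hx, rfl⟩
    rw [show k₁ (a₀ x) = a₀ x by
      conv_lhs => rw [← hkA _ hax]
      exact hk₁l _ (hAN₂ hax), hψe _ hax]
    show funOf χ (t (a₀ x)) = _
    rw [htl x hx]
    exact (funOf_apply χ ⟨x, hx⟩).symm

theorem residual_isPPrimeResidual : F.IsPPrimeResidual p (residual hS hF) := by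
  refine ⟨residual_isSaturated, ⟨residual_le, fun P hP => ?_⟩, fun D hD hDi => ?_⟩
  · refine ((core_index hS hF).1.2 P hP).trans fun α hα => ?_
    exact core_le_residual.isIso_autGroup hP hα
  · have hcore : (ampleCore F p).IsSubsystemOf D :=
      isAmple_ampleCore D ⟨hDi.1, fun P hP => hDi.2 P hP.1⟩
    rintro P φ ⟨-, b, Q, f, hb, hf, hφe⟩
    have hgen : ∀ b, Gen F p b → D.IsIso S S b := by
      intro b hb
      induction hb with
      | base b P₀ Q₀ hbi hP₀ hPQ =>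
        obtain ⟨β, hβ, hr, hβe⟩ := id hbi
        obtain ⟨φ₀, hφ₀, -, hφ₀e⟩ := id hPQ
        refine ⟨β, mem_of_restrict_centric hS hF hD hDi.1 hP₀ hP₀.1 hβ
          (D.mem_of_apply_eq (hcore P₀ hφ₀) fun x => ?_), hr, hβe⟩
        exact (hβe (Subgroup.inclusion hP₀.1 x)).trans (hφ₀e x).symm
      | comp b c _ _ ihb ihc => exact ihb.comp ihc
      | congr b c _ he ihb => exact ihb.congr he
    obtain ⟨Q₁, hQ₁, -, -⟩ := (hgen b hb).restrict hf.le_right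
    exact mem_hom_of_isIso ((hf.mono hcore).comp hQ₁) hφe

end Cfsg.FusionSystem.PrimeResidual
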