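import Cfsg.Agent.Lib.Fusion.PrimeResidual.Main
import Cfsg.Agent.Lib.Fusion.PrimeResidual.Comparison

/-!
The residual of a weakly normal subsystem lies in every weakly normal subsystem over the same subgroup.
-/

set_option autoImplicit false
set_option linter.unusedSectionVars false

namespace Cfsg.FusionSystem.PrimeResidual

universe u
variable {Ω : Type u} [Group Ω] {S T : Subgroup Ω} [Finite S] {p : ℕ} [Fact p.Prime]
  {F : FusionSystem S} {E D : FusionSystem T}

theorem residual_le_weaklyNormal (hS : IsPGroup p S) [Finite T] (hT : IsPGroup p T)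
    (hE : E.IsWeaklyNormalIn F p) (hD : D.IsWeaklyNormalIn F p) :
    (residual hT hE.1).IsSubsystemOf D := by
  have hcore : (ampleCore E p).IsSubsystemOf D := hE.ampleCore_le hS hD
  have hgen : ∀ b, Gen E p b → D.IsIso T T b := by
    intro b hb
    induction hb with
    | base b P Q hbi hP hPQ => exact hE.mem_of_restrict hS hD hbi P Q hP (hPQ.mono hcore)
    | comp b c _ _ ihb ihc => exact ihb.comp ihc
    | congr b c _ he ihb => exact ihb.congr he
  rintro P φ ⟨-, b, Q, f, hb, hf, hφe⟩
  obtain ⟨Q₁, hQ₁, -, -⟩ := (hgen b hb).restrict hf.le_right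
  exact mem_hom_of_isIso ((hf.mono hcore).comp hQ₁) hφe

end Cfsg.FusionSystem.PrimeResidual
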