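import Cfsg.Agent.Lib.Fusion.Iso
import Cfsg.Agent.Lib.Fusion.PrimeIndex
import Cfsg.Agent.Lib.Fusion.StableRadical
import Cfsg.Agent.Lib.Fusion.Relative

/-!
Preparations for the `p'`-residual subsystem: decompositions inside normalizer systems and the
correction of extensions.
-/

set_option autoImplicit false
set_option linter.unusedSectionVars false

namespace Cfsg.FusionSystem.PrimeResidual

universe u
variable {Ω : Type u} [Group Ω] {S : Subgroup Ω} [Finite S] {p : ℕ} [Fact p.Prime] {F : FusionSystem S}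
  {A P Q V V' : Subgroup Ω} {f b : Ω → Ω}

theorem core_index (hS : IsPGroup p S) (hF : F.IsSaturated p) :
    (ampleCore F p).HasPrimeToPIndexIn F p ∧
    (∀ (P : Subgroup Ω) (φ : P →* Ω), φ ∈ F.Hom P → ∃ α ∈ F.autGroup S, ∃ φ₀ ∈ (ampleCore F p).Hom P,
      ∀ (x : P) (hx : φ₀ x ∈ S), φ x = ((α ⟨φ₀ x, hx⟩ : S) : Ω)) ∧
    ∀ P : Subgroup Ω, (ampleCore F p).IsCentric P ↔ F.IsCentric P :=
  hF.hasPrimeToPIndexIn_of_centric hS (fun _ _ h => h.1) fun _ hP => closure_le_ampleCore hP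

theorem core_le : (ampleCore F p).IsSubsystemOf F := fun _ _ h => h.1

/-- Automorphisms of `p`-power order lie in the core. -/
theorem isIso_of_pElement (hS : IsPGroup p S) (hF : F.IsSaturated p) (hP : P ≤ S) {α : MulAut P}
    (hα : α ∈ F.autGroup P) (hp : ∃ k : ℕ, orderOf α = p ^ k) :
    ∃ f, (ampleCore F p).IsIso P P f ∧ ∀ x : P, ((α x : P) : Ω) = f x := by
  obtain ⟨k, hk⟩ := hp
  exact isIso_of_aut hP ((core_index hS hF).1.2 P hP
    ⟨⟨α, hα⟩, Subgroup.subset_closure ⟨k, by rw [← Subgroup.orderOf_coe]; exact hk⟩, rfl⟩)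

/-- Every map is an automorphism of `S` after a map of the core. -/
theorem frattini (hS : IsPGroup p S) (hF : F.IsSaturated p) (h : F.IsIso P Q f) :
    ∃ (b : Ω → Ω) (Q₀ : Subgroup Ω) (f₀ : Ω → Ω), F.IsIso S S b ∧ (ampleCore F p).IsIso P Q₀ f₀ ∧
      (∀ x ∈ P, f x = b (f₀ x)) ∧ ∀ y, y ∈ Q ↔ ∃ x ∈ Q₀, b x = y := by
  obtain ⟨φ, hφ, hr, he⟩ := id h
  obtain ⟨α, hα, φ₀, hφ₀, hφe⟩ := (core_index hS hF).2.1 P φ hφ
  obtain ⟨b, hb, hbe⟩ := isIso_of_aut le_rfl hα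
  have hval : ∀ x ∈ P, f x = b (funOf φ₀ x) := fun x hx => by
    have hm := (ampleCore F p).apply_mem hφ₀ ⟨x, hx⟩
    rw [← he ⟨x, hx⟩, hφe _ hm, hbe]
    exact congrArg b (funOf_apply φ₀ ⟨x, hx⟩)
  refine ⟨b, φ₀.range, funOf φ₀, hb, isIso_funOf hφ₀, hval, fun y => ⟨fun hy => ?_, ?_⟩⟩
  · obtain ⟨x, hx, rfl⟩ := h.surj hy
    exact ⟨_, (isIso_funOf hφ₀).mem hx, (hval x hx).symm⟩
  · rintro ⟨_, ⟨x, rfl⟩, rfl⟩
    rw [funOf_apply φ₀ x, ← hval x x.2]
    exact h.mem x.2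

/-- The core is invariant under automorphisms of `S`. -/
theorem invariant (hS : IsPGroup p S) (hF : F.IsSaturated p) (hb : F.IsIso S S b)
    (h : (ampleCore F p).IsIso P Q f) {P' Q' : Subgroup Ω} (hP' : ∀ y, y ∈ P' ↔ ∃ x ∈ P, b x = y)
    (hQ' : ∀ y, y ∈ Q' ↔ ∃ x ∈ Q, b x = y) :
    ∃ f', (ampleCore F p).IsIso P' Q' f' ∧ ∀ x ∈ P, f' (b x) = b (f x) := by
  obtain ⟨β, hβ, hβe⟩ := hb.toAut
  obtain ⟨φ, hφ, hr, he⟩ := id h
  obtain ⟨ψ, hψ, hψe⟩ := ampleCore_invariant hS hF hβ hφ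
  have hPS := h.le_left
  have heq : imageAlong (S.subtype.comp β.toMonoidHom) P = P' := by
    ext y
    rw [hP']
    constructor
    · rintro ⟨s, hs, rfl⟩
      exact ⟨s, hs, (hβe s).symm⟩
    · rintro ⟨x, hx, rfl⟩
      exact ⟨⟨x, hPS hx⟩, hx, hβe ⟨x, hPS hx⟩⟩
  subst heq
  have hval : ∀ x ∈ P, funOf ψ (b x) = b (f x) := fun x hx => by
    have hm : ((β ⟨x, hPS hx⟩ : S) : Ω) ∈ imageAlong (S.subtype.comp β.toMonoidHom) P :=
      ⟨⟨x, hPS hx⟩, hx, rfl⟩
    have h2 := hψe ⟨x, hx⟩ (hPS hx) hm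
    rw [funOf_apply ψ ⟨_, hm⟩, hβe, hβe] at h2
    rw [h2]
    exact congrArg b (he ⟨x, hx⟩)
  refine ⟨funOf ψ, ?_, hval⟩
  have hiso := isIso_funOf hψ
  have heq' : ψ.range = Q' := by
    ext y
    rw [hQ']
    constructor
    · intro hy
      obtain ⟨z, hz, rfl⟩ := hiso.surj hy
      obtain ⟨x, hx, rfl⟩ := (hP' z).mp hz
      exact ⟨f x, h.mem hx, (hval x hx).symm⟩
    · rintro ⟨z, hz, rfl⟩
      obtain ⟨x, hx, rfl⟩ := h.surj hz
      rw [← hval x hx]
      exact hiso.mem ((hP' _).mpr ⟨x, hx, rfl⟩)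
  exact heq' ▸ hiso

/-- An automorphism of `p`-power order that extends does so to one of `p`-power order. -/
theorem exists_pPower_extension {W : Subgroup Ω} [Finite W] (hAW : A ≤ W) {α : MulAut A}
    {β : MulAut W} (hα : ∃ k : ℕ, orderOf α = p ^ k)
    (he : ∀ x : A, ((β (Subgroup.inclusion hAW x) : W) : Ω) = ((α x : A) : Ω)) :
    ∃ n : ℕ, (∃ k : ℕ, orderOf (β ^ n) = p ^ k) ∧
      ∀ x : A, (((β ^ n) (Subgroup.inclusion hAW x) : W) : Ω) = ((α x : A) : Ω) := by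
  haveI : Finite (MulAut W) := Finite.of_injective (fun a : MulAut W => (a : W → W)) DFunLike.coe_injective
  have hpow : ∀ (n : ℕ) (x : A), (((β ^ n) (Subgroup.inclusion hAW x) : W) : Ω) = (((α ^ n) x : A) : Ω) := by
    intro n
    induction n with
    | zero => intro x; rfl
    | succ n ih =>
      intro x
      rw [pow_succ', pow_succ', MulAut.mul_apply, MulAut.mul_apply,
        show (β ^ n) (Subgroup.inclusion hAW x) = Subgroup.inclusion hAW ((α ^ n) x) from Subtype.ext (ih x), he]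
  have hp := (Fact.out : p.Prime)
  obtain ⟨a, c, hc, hoc⟩ := Nat.exists_eq_pow_mul_and_not_dvd (orderOf_pos β).ne' p hp.ne_one
  obtain ⟨k, hk⟩ := hα
  have hcop : (p ^ k).Coprime c := ((Nat.Prime.coprime_iff_not_dvd hp).mpr hc).pow_left k
  obtain ⟨n, h1, h2⟩ := Nat.chineseRemainder hcop 1 0
  refine ⟨n, ?_, fun x => ?_⟩
  · obtain ⟨j, -, hj⟩ := (Nat.dvd_prime_pow hp).mp (orderOf_dvd_of_pow_eq_one (n := p ^ a) (x := β ^ n) (by
      obtain ⟨d, hd⟩ := (Nat.modEq_zero_iff_dvd).mp h2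
      rw [← pow_mul, hd, show c * d * p ^ a = orderOf β * d by rw [hoc]; ring, pow_mul, pow_orderOf_eq_one, one_pow]))
    exact ⟨j, hj⟩
  · have : α ^ n = α := by
      conv_rhs => rw [← pow_one α]
      rw [pow_eq_pow_iff_modEq, hk]
      exact h1
    rw [hpow, this]

/-- `O^{p'}(Aut_F(A))`. -/
def opSet (F : FusionSystem S) (p : ℕ) (A : Subgroup Ω) : Subgroup (MulAut A) :=
  (Subgroup.closure {α : ↥(F.autGroup A) | ∃ k : ℕ, orderOf α = p ^ k}).map (F.autGroup A).subtype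

/-- `A` extended by its centraliser. -/
abbrev ext (S A : Subgroup Ω) : Subgroup Ω := A ⊔ centralizerIn S A

theorem ext_le (hA : A ≤ S) : ext S A ≤ S := sup_le hA centralizerIn_le

theorem ext_le_normalizerIn (hA : A ≤ S) : ext S A ≤ normalizerIn S A :=
  sup_le (le_normalizerIn hA) centralizerIn_le_normalizerIn

theorem conj_mem_ext (hA : A ≤ S) {g : Ω} (hg : g ∈ normalizerIn S A) :
    g ∈ Subgroup.normalizer (ext S A : Set Ω) := by
  have key : ∀ g ∈ normalizerIn S A, ∀ x ∈ ext S A, g * x * g⁻¹ ∈ ext S A := by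
    intro g hg x hx
    suffices ext S A ≤ (ext S A).comap (MulAut.conj g).toMonoidHom from this hx
    refine sup_le (fun y hy => ?_) (fun y hy => ?_)
    · exact Subgroup.mem_sup_left ((Subgroup.mem_normalizer_iff.mp hg.2 y).mp hy)
    · refine Subgroup.mem_sup_right ⟨S.mul_mem (S.mul_mem hg.1 hy.1) (S.inv_mem hg.1), ?_⟩
      intro a ha
      show a * (g * y * g⁻¹) = g * y * g⁻¹ * a
      have h1 := Subgroup.mem_centralizer_iff.mp hy.2 _ ((Subgroup.mem_normalizer_iff''.mp hg.2 a).mp ha)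
      calc a * (g * y * g⁻¹) = g * ((g⁻¹ * a * g) * y) * g⁻¹ := by group
        _ = g * (y * (g⁻¹ * a * g)) * g⁻¹ := by rw [h1]
        _ = g * y * g⁻¹ * a := by group
  rw [Subgroup.mem_normalizer_iff]
  intro x
  refine ⟨key g hg x, fun h => ?_⟩
  have := key g⁻¹ (InvMemClass.inv_mem hg) _ h
  rwa [show g⁻¹ * (g * x * g⁻¹) * g⁻¹⁻¹ = x by group] at this

/-- Elements of `O^{p'}(Aut_F(A))` lift to the core on `A C_S(A)`. -/
theorem op_lift (hS : IsPGroup p S) (hF : F.IsSaturated p) (hA : F.IsFullyNormalized A) {α : MulAut A}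
    (hα : α ∈ opSet F p A) :
    ∃ w, (ampleCore F p).IsIso (ext S A) (ext S A) w ∧ ∀ x : A, ((α x : A) : Ω) = w x := by
  haveI := finite_of_le (ext_le hA.1)
  obtain ⟨⟨hle, hext⟩, -⟩ := hF.autExtends_centralizer hS hA
  obtain ⟨a, ha, rfl⟩ := hα
  induction ha using Subgroup.closure_induction with
  | mem a ha =>
    obtain ⟨k, hk⟩ := ha
    obtain ⟨β, hβ, hβe⟩ := hext _ a.2
    obtain ⟨n, hn, hne⟩ := exists_pPower_extension hle (α := (a : MulAut A)) (β := β)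
      ⟨k, by rw [Subgroup.orderOf_coe, hk]⟩ hβe
    obtain ⟨w, hw, hwe⟩ := isIso_of_pElement hS hF (ext_le hA.1) (pow_mem hβ n) hn
    exact ⟨w, hw, fun x => (hne x).symm.trans (hwe (Subgroup.inclusion hle x))⟩
  | one => exact ⟨_, IsIso.refl _ (ext_le hA.1), fun x => rfl⟩
  | mul a b _ _ iha ihb =>
    obtain ⟨u, hu, hue⟩ := iha
    obtain ⟨v, hv, hve⟩ := ihb
    refine ⟨_, hv.comp hu, fun x => ?_⟩
    show (((a : MulAut A) ((b : MulAut A) x) : A) : Ω) = _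
    rw [← hve x]
    exact hue _
  | inv a _ iha =>
    obtain ⟨u, hu, hue⟩ := iha
    obtain ⟨v, hv, hvl, -⟩ := hu.symm
    refine ⟨v, hv, fun x => ?_⟩
    obtain ⟨y, rfl⟩ := (a : MulAut A).surjective x
    show (((a : MulAut A)⁻¹ ((a : MulAut A) y) : A) : Ω) = _
    rw [MulAut.inv_apply_self]
    exact ((congrArg v (hue y)).trans (hvl y (hle y.2))).symm

/-- `e` carries `A` to itself by the restriction of a map of the core on `A C_S(A)`. -/
def LiftsAt (F : FusionSystem S) (p : ℕ) (A : Subgroup Ω) (e : Ω → Ω) : Prop :=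
  (∀ y, y ∈ A ↔ ∃ x ∈ A, e x = y) ∧
    ∃ w, (ampleCore F p).IsIso (ext S A) (ext S A) w ∧ ∀ x ∈ A, w x = e x

theorem image_sup_le {X Y Z : Subgroup Ω} {E : FusionSystem S} (h : E.IsIso (X ⊔ Y) Q f)
    (hX : ∀ x ∈ X, f x ∈ Z) (hY : ∀ y ∈ Y, f y ∈ Z) : Q ≤ Z := by
  intro q hq
  obtain ⟨x, hx, rfl⟩ := h.surj hq
  suffices x ∈ X ⊔ Y ∧ f x ∈ Z from this.2
  have hx' := hx
  rw [Subgroup.sup_eq_closure] at hx'
  clear hq hx
  induction hx' using Subgroup.closure_induction with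
  | mem w hw =>
    rcases hw with hw | hw
    · exact ⟨Subgroup.mem_sup_left hw, hX w hw⟩
    · exact ⟨Subgroup.mem_sup_right hw, hY w hw⟩
  | one => exact ⟨one_mem _, by rw [h.apply_one]; exact Z.one_mem⟩
  | mul u v _ _ hu hv => exact ⟨mul_mem hu.1 hv.1, by rw [h.apply_mul hu.1 hv.1]; exact Z.mul_mem hu.2 hv.2⟩
  | inv u _ hu => exact ⟨InvMemClass.inv_mem hu.1, by rw [h.apply_inv hu.1]; exact Z.inv_mem hu.2⟩

/-- The maps of the normalizer system of `A` in the core whose action on `A` lifts. -/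
def liftSystem (F : FusionSystem S) (p : ℕ) [Fact p.Prime] (A : Subgroup Ω) (hA : A ≤ S) :
    FusionSystem (normalizerIn S A) where
  Hom P := {φ | φ ∈ (F.normalizerSystem A hA).Hom P ∧ ∃ (e : Ω → Ω) (Q : Subgroup Ω),
    (ampleCore F p).IsIso (P ⊔ A) Q e ∧ (∀ x : P, φ x = e x) ∧ LiftsAt F p A e}
  le_of_mem h := (F.normalizerSystem A hA).le_of_mem h.1
  injective_of_mem h := (F.normalizerSystem A hA).injective_of_mem h.1
  conj_mem := by
    intro P g hP hg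
    refine ⟨(F.normalizerSystem A hA).conj_mem hP hg, fun x => g * x * g⁻¹, _,
      isIso_conj (sup_le (hP.trans normalizerIn_le) hA) hg.1, fun x => rfl, fun y => ?_, fun x => g * x * g⁻¹,
      isIso_conj_normalizer (ext_le hA) hg.1 (conj_mem_ext hA hg), fun x _ => rfl⟩
    constructor
    · intro hy
      exact ⟨g⁻¹ * y * g, (Subgroup.mem_normalizer_iff''.mp hg.2 y).mp hy, by group⟩
    · rintro ⟨x, hx, rfl⟩
      exact (Subgroup.mem_normalizer_iff.mp hg.2 x).mp hx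
  comp_mem := by
    rintro P R φ ψ ⟨hφ, e, Q, he, hφe, heA, w, hw, hwe⟩ ⟨hψ, e', Q', he', hψe, he'A, w', hw', hw'e⟩ hh
    refine ⟨(F.normalizerSystem A hA).comp_mem hφ hψ hh, fun x => e' (e x), ?_⟩
    have hQ : Q ≤ R ⊔ A := image_sup_le he
      (fun x hx => Subgroup.mem_sup_left (hφe ⟨x, hx⟩ ▸ hh ⟨x, hx⟩))
      (fun y hy => Subgroup.mem_sup_right ((heA _).mpr ⟨y, hy, rfl⟩))
    obtain ⟨Q'', hres, -, -⟩ := he'.restrict hQ
    refine ⟨Q'', he.comp hres, fun x => ?_, fun y => ⟨fun hy => ?_, ?_⟩, fun x => w' (w x), hw.comp hw',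
      fun x hx => ?_⟩
    · show ψ ⟨φ x, hh x⟩ = _
      rw [hψe]
      exact congrArg e' (hφe x)
    · obtain ⟨z, hz, rfl⟩ := (he'A y).mp hy
      obtain ⟨x, hx, rfl⟩ := (heA z).mp hz
      exact ⟨x, hx, rfl⟩
    · rintro ⟨x, hx, rfl⟩
      exact (he'A _).mpr ⟨e x, (heA _).mpr ⟨x, hx, rfl⟩, rfl⟩
    · show w' (w x) = e' (e x)
      rw [hwe x hx]
      exact hw'e _ ((heA _).mpr ⟨x, hx, rfl⟩)
  inv_mem := by
    rintro P φ ⟨hφ, e, Q, he, hφe, heA, w, hw, hwe⟩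
    obtain ⟨ψ, hψ, hψi⟩ := (F.normalizerSystem A hA).inv_mem hφ
    refine ⟨ψ, ⟨hψ, ?_⟩, hψi⟩
    obtain ⟨e', he', hl, hr⟩ := he.symm
    obtain ⟨w', hw', hwl, -⟩ := hw.symm
    have hle : φ.range ⊔ A ≤ Q := sup_le (by rintro _ ⟨x, rfl⟩; rw [hφe]; exact he.mem (Subgroup.mem_sup_left x.2))
      (fun y hy => by obtain ⟨x, hx, rfl⟩ := (heA y).mp hy; exact he.mem (Subgroup.mem_sup_right hx))
    obtain ⟨Q', hres, -, -⟩ := he'.restrict hle
    refine ⟨e', Q', hres, ?_, fun y => ⟨fun hy => ⟨e y, (heA _).mpr ⟨y, hy, rfl⟩, hl y (Subgroup.mem_sup_right hy)⟩,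
      ?_⟩, w', hw', fun x hx => ?_⟩
    · rintro ⟨_, x, rfl⟩
      rw [hψi x]
      show (x : Ω) = e' (φ x)
      rw [hφe, hl _ (Subgroup.mem_sup_left x.2)]
    · rintro ⟨x, hx, rfl⟩
      obtain ⟨z, hz, rfl⟩ := (heA x).mp hx
      rw [hl z (Subgroup.mem_sup_right hz)]
      exact hz
    · obtain ⟨z, hz, rfl⟩ := (heA x).mp hx
      rw [hl z (Subgroup.mem_sup_right hz), ← hwe z hz, hwl z (Subgroup.mem_sup_left hz)]

/-- Decomposition of a map normalising a fully normalized subgroup. -/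
theorem key (hS : IsPGroup p S) (hF : F.IsSaturated p) (hA : F.IsFullyNormalized A) (h : F.IsIso V V' f)
    (hAV : A ≤ V) (hV : V ≤ normalizerIn S A) (hV' : V' ≤ normalizerIn S A)
    (hfA : ∀ y, y ∈ A ↔ ∃ x ∈ A, f x = y) :
    ∃ (b : Ω → Ω) (V₀ : Subgroup Ω) (g : Ω → Ω),
      F.IsIso (normalizerIn S A) (normalizerIn S A) b ∧ (∀ y, y ∈ A ↔ ∃ x ∈ A, b x = y) ∧
      (ampleCore F p).IsIso V V₀ g ∧ V₀ ≤ normalizerIn S A ∧ (∀ x ∈ V, f x = b (g x)) ∧ LiftsAt F p A g := by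
  haveI := finite_normalizerIn (S := S) (P := A)
  set N := normalizerIn S A with hNdef
  have hAN : A ≤ N := le_normalizerIn hA.1
  set G := F.normalizerSystem A hA.1 with hG
  have hGsat : G.IsSaturated p := hF.isSaturated_normalizerSystem hS hA (fun _ => rfl)
  have hsub : (liftSystem F p A hA.1).IsSubsystemOf G := fun _ _ h => h.1
  have hfr := (hGsat.hasPrimeToPIndexIn_of_centric (hS.to_le normalizerIn_le) hsub fun L hL => by
    rw [Subgroup.map_le_iff_le_comap]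
    refine (Subgroup.closure_le _).mpr fun a ha => ?_
    obtain ⟨k, hk⟩ := ha
    obtain ⟨φ, hφ, hr, hφe⟩ := G.exists_map_of_mem_autGroup hL.1 a.2
    obtain ⟨-, -, -, ψ, hψ, hψe, hψA⟩ := id hφ
    have hM : L ⊔ A ≤ S := sup_le (hL.1.trans normalizerIn_le) hA.1
    haveI := finite_of_le hM
    haveI := finite_of_le hA.1
    have hψr : ψ.range = L ⊔ A := by rw [map_inclusion_sup ψ hψA hψe, hr]
    set β := F.isoOf hψ hψr with hβdef
    obtain ⟨n, hn, hne⟩ := exists_pPower_extension (le_sup_left (a := L) (b := A)) (α := (a : MulAut L)) (β := β)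
      ⟨k, by rw [Subgroup.orderOf_coe, hk]⟩ (fun x => by rw [coe_isoOf hψ hψr, ← hφe x]; exact hψe x)
    obtain ⟨e, he, hee⟩ := isIso_of_pElement hS hF hM (pow_mem (F.isoOf_mem_autGroup hψ hψr) n) hn
    have hpA : ∀ (m : ℕ) (x : ↥(L ⊔ A)), (x : Ω) ∈ A → (((β ^ m) x : ↥(L ⊔ A)) : Ω) ∈ A := by
      intro m
      induction m with
      | zero => exact fun x hx => hx
      | succ m ih =>
        intro x hx
        rw [pow_succ', MulAut.mul_apply, coe_isoOf hψ hψr]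
        exact hψA.le ⟨_, ih x hx, rfl⟩
    have heA' : ∀ x ∈ A, e x ∈ A := fun x hx => by
      have h1 := hpA n ⟨x, Subgroup.mem_sup_right hx⟩ hx
      rwa [hee] at h1
    obtain ⟨A', hres, -, hA'⟩ := he.restrict (le_sup_right : A ≤ L ⊔ A)
    have hAA : A' = A := hres.eq_of_le hA.1 (fun y hy => by
      obtain ⟨x, hx, rfl⟩ := (hA' y).mp hy; exact heA' x hx) le_rfl
    rw [hAA] at hres hA'
    obtain ⟨γ, hγ, hγe⟩ := hres.toAut
    have hγp : ∃ j : ℕ, orderOf γ = p ^ j := by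
      obtain ⟨j, hj⟩ := hn
      have hγpow : ∀ (m : ℕ) (x : A), (((γ ^ m) x : A) : Ω) =
          ((((β ^ n) ^ m) (Subgroup.inclusion le_sup_right x) : ↥(L ⊔ A)) : Ω) := by
        intro m
        induction m with
        | zero => exact fun x => rfl
        | succ m ih =>
          intro x
          rw [pow_succ', pow_succ', MulAut.mul_apply, MulAut.mul_apply, hγe, hee]
          exact congrArg e (ih x)
      have hone : γ ^ p ^ j = 1 := MulEquiv.ext fun x => Subtype.ext (by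
        rw [hγpow, ← hj, pow_orderOf_eq_one]; rfl)
      obtain ⟨i, -, hi⟩ := (Nat.dvd_prime_pow (Fact.out : p.Prime)).mp (orderOf_dvd_of_pow_eq_one hone)
      exact ⟨i, hi⟩
    obtain ⟨j, hj⟩ := hγp
    obtain ⟨w, hw, hwe⟩ := op_lift hS hF hA (α := γ) ⟨⟨γ, core_le.isIso_autGroup hA.1 hγ⟩,
      Subgroup.subset_closure ⟨j, by rw [← Subgroup.orderOf_coe]; exact hj⟩, rfl⟩
    refine ((liftSystem F p A hA.1).mem_autGroup_iff hL.1).mpr ⟨(G.mem_autGroup_iff hL.1).mp a.2, e, L ⊔ A,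
      he, fun x => (hne x).symm.trans (hee (Subgroup.inclusion le_sup_left x)), hA', w, hw, fun x hx => ?_⟩
    exact (hwe ⟨x, hx⟩).symm.trans (hγe ⟨x, hx⟩)).2.1
  obtain ⟨φ, hφ, hr, he⟩ := id h
  have hsup : V ⊔ A ≤ V := sup_le le_rfl hAV
  have hφG : φ ∈ G.Hom V := by
    refine ⟨hφ, hV, fun x => hV' (hr.le ⟨x, rfl⟩), φ.comp (Subgroup.inclusion hsup), F.restrict_mem hφ hsup,
      fun x => rfl, ?_⟩
    ext y
    rw [hfA y]
    constructor
    · rintro ⟨x, hx, rfl⟩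
      exact ⟨x, hx, (he (Subgroup.inclusion hsup x)).symm⟩
    · rintro ⟨x, hx, rfl⟩
      exact ⟨⟨x, Subgroup.mem_sup_right hx⟩, hx, he _⟩
  obtain ⟨α, hα, φ₀, hφ₀, hφe⟩ := hfr V φ hφG
  obtain ⟨b, hb, hbe⟩ := isIso_of_aut le_rfl hα
  obtain ⟨hφ₀G, e, Q, heI, h₀e, hlift⟩ := hφ₀
  rw [sup_eq_left.mpr hAV] at heI
  have hQN : Q ≤ N := by
    intro q hq
    obtain ⟨x, hx, rfl⟩ := heI.surj hq
    rw [← h₀e ⟨x, hx⟩]
    exact G.apply_mem hφ₀G _
  have hbF : F.IsIso N N b := hb.mono fun _ _ h => h.1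
  have hval : ∀ x ∈ V, f x = b (e x) := fun x hx => by
    rw [← he ⟨x, hx⟩, hφe _ (G.apply_mem hφ₀G _), hbe]
    exact congrArg b (h₀e ⟨x, hx⟩)
  refine ⟨b, Q, e, hbF, fun y => ?_, heI, hQN, hval, hlift⟩
  rw [hfA y]
  constructor
  · rintro ⟨x, hx, rfl⟩
    exact ⟨e x, (hlift.1 _).mpr ⟨x, hx, rfl⟩, (hval x (hAV hx)).symm⟩
  · rintro ⟨z, hz, rfl⟩
    obtain ⟨x, hx, rfl⟩ := (hlift.1 z).mp hz
    exact ⟨x, hx, hval x (hAV hx)⟩

/-- An automorphism of `A C_S(A)` fixing `A` is a core automorphism after one that extends to `N`. -/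
theorem split_fixing (hS : IsPGroup p S) (hF : F.IsSaturated p) (hA : F.IsFullyNormalized A) {N : Subgroup Ω}
    (hWN : ext S A ≤ N) (hN : N ≤ normalizerIn S A) (h : F.IsIso (ext S A) (ext S A) f) (hfix : ∀ x ∈ A, f x = x) :
    ∃ (o k : Ω → Ω), (ampleCore F p).IsIso (ext S A) (ext S A) o ∧ F.IsIso N N k ∧ (∀ x ∈ A, k x = x) ∧
      ∀ x ∈ ext S A, k x ∈ ext S A ∧ f x = o (k x) := by
  classical
  set W := ext S A with hWdef
  have hWS : W ≤ S := ext_le hA.1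
  have hNS : N ≤ S := hN.trans normalizerIn_le
  haveI := finite_of_le hWS
  haveI := finite_autGroup (F := F) hWS
  haveI := finite_of_le hNS
  have hAW : A ≤ W := le_sup_left
  have hCW : centralizerIn S A ≤ W := le_sup_right
  -- automorphisms inducing on `A` what some element of `N` induces
  let L : Subgroup (F.autGroup W) :=
    { carrier := {η | ∃ n ∈ N, ∀ (x : Ω) (hx : x ∈ A), (((η : MulAut W) ⟨x, hAW hx⟩ : W) : Ω) = n * x * n⁻¹}
      one_mem' := ⟨1, N.one_mem, fun x hx => by simp⟩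
      mul_mem' := by
        rintro a c ⟨m, hm, hme⟩ ⟨n, hn, hne⟩
        refine ⟨m * n, N.mul_mem hm hn, fun x hx => ?_⟩
        have hy : n * x * n⁻¹ ∈ A := (Subgroup.mem_normalizer_iff.mp (hN hn).2 x).mp hx
        show (((a : MulAut W) ((c : MulAut W) ⟨x, hAW hx⟩) : W) : Ω) = _
        rw [show (c : MulAut W) ⟨x, hAW hx⟩ = ⟨n * x * n⁻¹, hAW hy⟩ from Subtype.ext (hne x hx), hme _ hy]
        group
      inv_mem' := by
        rintro a ⟨n, hn, hne⟩
        refine ⟨n⁻¹, N.inv_mem hn, fun x hx => ?_⟩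
        have hy : n⁻¹ * x * n ∈ A := (Subgroup.mem_normalizer_iff''.mp (hN hn).2 x).mp hx
        have h1 : (a : MulAut W) ⟨_, hAW hy⟩ = ⟨x, hAW hx⟩ := Subtype.ext (by rw [hne _ hy]; group)
        show (((a : MulAut W)⁻¹ ⟨x, hAW hx⟩ : W) : Ω) = _
        rw [← h1, MulAut.inv_apply_self, inv_inv] }
  let R : Subgroup L := ((autInducedBy N W).subgroupOf (F.autGroup W)).subgroupOf L
  have hcw : ∀ n ∈ N, ∃ r : L, r ∈ R ∧ ∀ x : W, ((((r : F.autGroup W) : MulAut W) x : W) : Ω) = n * x * n⁻¹ := by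
    intro n hn
    have hnW := conj_mem_ext hA.1 (hN hn)
    let c : MulAut W := W.normalizerMonoidHom ⟨n, hnW⟩
    have hc : c ∈ autInducedBy N W := mem_autInducedBy_iff.mpr ⟨n, hn, hnW, fun _ => rfl⟩
    have hcF : c ∈ F.autGroup W :=
      autInducedBy_le_autGroup hWS (mem_autInducedBy_iff.mpr ⟨n, hNS hn, hnW, fun _ => rfl⟩)
    exact ⟨⟨⟨c, hcF⟩, n, hn, fun x hx => rfl⟩, hc, fun _ => rfl⟩
  have hRp : IsPGroup p R := by
    have h1 : IsPGroup p ↥((autInducedBy N W).subgroupOf (F.autGroup W)) :=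
      (isPGroup_autInducedBy (hS.to_le hNS)).comap_of_injective _ (F.autGroup W).subtype_injective
    exact h1.comap_of_injective _ L.subtype_injective
  obtain ⟨T, hT⟩ := hRp.exists_le_sylow
  -- a `p`-element fixing `A` is induced by `C_S(A)`
  have hfixp : ∀ κ : L, (∃ j : ℕ, orderOf κ = p ^ j) →
      (∀ (x : Ω) (hx : x ∈ A), ((((κ : F.autGroup W) : MulAut W) ⟨x, hAW hx⟩ : W) : Ω) = x) → κ ∈ R := by
    rintro κ ⟨j, hj⟩ hκ
    set κ' : MulAut W := ((κ : F.autGroup W) : MulAut W) with hκ'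
    obtain ⟨g, hg, hge⟩ := isIso_of_aut hWS (κ : F.autGroup W).2
    haveI := finite_centralizerIn (S := S) (P := A)
    set C := centralizerIn S A with hC
    have hgA : ∀ x ∈ A, g x = x := fun x hx => (hge ⟨x, hAW hx⟩).symm.trans (hκ x hx)
    obtain ⟨C', hgC, -, hC'⟩ := hg.restrict hCW
    have hCC : C' = C := hgC.eq_of_le centralizerIn_le (fun y hy => by
      obtain ⟨x, hx, rfl⟩ := (hC' y).mp hy
      refine ⟨hgC.le_right ((hC' _).mpr ⟨x, hx, rfl⟩), hg.mem_centralizer hAW (fun z => ?_) (hCW hx) hx.2⟩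
      exact ⟨fun hz => ⟨z, hz, hgA z hz⟩, fun ⟨w, hw, hwe⟩ => hwe ▸ (hgA w hw).symm ▸ hw⟩) le_rfl
    rw [hCC] at hgC hC'
    set D := F.centralizerSystem A hA.1 with hD
    have hDsat : D.IsSaturated p :=
      hF.isSaturated_centralizerSystem hS (hF.isFullyCentralized_of_isFullyNormalized hS hA) (fun _ => rfl)
    obtain ⟨φ, hφ, hφr, hφe⟩ := id hgC
    obtain ⟨ψ, hψ, hψr, hψe⟩ := id hg
    have hle : C ⊔ A ≤ W := sup_le hCW hAW
    have hφD : φ ∈ D.Hom C := ⟨hφ, le_rfl, fun x => hφr.le ⟨x, rfl⟩, ψ.comp (Subgroup.inclusion hle),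
      F.restrict_mem hψ hle, fun x => (hψe _).trans (hφe x).symm, fun x => (hψe _).trans (hgA x x.2)⟩
    set γ := D.isoOf hφD hφr with hγ
    have hγm : γ ∈ D.autGroup C := D.isoOf_mem_autGroup hφD hφr
    have hγval : ∀ x : C, ((γ x : C) : Ω) = ((κ' (Subgroup.inclusion hCW x) : W) : Ω) := fun x => by
      rw [coe_isoOf hφD hφr, hφe, hge]; rfl
    have hγpow : ∀ (m : ℕ) (x : C),
        (((γ ^ m) x : C) : Ω) = (((κ' ^ m) (Subgroup.inclusion hCW x) : W) : Ω) := by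
      intro m
      induction m with
      | zero => exact fun x => rfl
      | succ m ih =>
        intro x
        rw [pow_succ', pow_succ', MulAut.mul_apply, MulAut.mul_apply, hγval,
          show Subgroup.inclusion hCW ((γ ^ m) x) = (κ' ^ m) (Subgroup.inclusion hCW x) from Subtype.ext (ih x)]
    have hγ1 : γ ^ p ^ j = 1 := MulEquiv.ext fun x => Subtype.ext (by
      have h0 : κ' ^ p ^ j = 1 := by
        rw [← hj, hκ', ← Subgroup.coe_pow, ← Subgroup.coe_pow, pow_orderOf_eq_one]; rfl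
      rw [hγpow, h0]; rfl)
    haveI := finite_autGroup (F := D) (P := C) le_rfl
    obtain ⟨-, T', hT'⟩ := hDsat.isFullyAutomized_of_isFullyNormalized (hS.to_le centralizerIn_le)
      (isFullyNormalized_self (F := D))
    haveI : ((autInducedBy C C).subgroupOf (D.autGroup C)).Normal := by
      rw [← inn_eq_autInducedBy]
      haveI : (Inn C).Normal := inferInstanceAs (MulAut.conj (G := C)).range.Normal
      infer_instance
    have hin : (⟨γ, hγm⟩ : D.autGroup C) ∈ (T' : Subgroup (D.autGroup C)) := by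
      have hzp : IsPGroup p (Subgroup.zpowers (⟨γ, hγm⟩ : D.autGroup C)) := by
        obtain ⟨i, -, hi⟩ := (Nat.dvd_prime_pow (Fact.out : p.Prime)).mp (orderOf_dvd_of_pow_eq_one hγ1)
        exact IsPGroup.of_card (n := i) (by rw [Nat.card_zpowers, ← Subgroup.orderOf_coe]; exact hi)
      haveI : (T' : Subgroup (D.autGroup C)).Normal := by rw [hT']; infer_instance
      rw [← T'.3 (IsPGroup.to_sup_of_normal_right hzp T'.2) le_sup_right]
      exact Subgroup.mem_sup_left (Subgroup.mem_zpowers _)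
    rw [hT'] at hin
    obtain ⟨z, hz, -, hze⟩ := mem_autInducedBy_iff.mp (Subgroup.mem_subgroupOf.mp hin)
    obtain ⟨r, hr, hre⟩ := hcw z (hWN (hCW hz))
    have heq : κ = r := by
      refine Subtype.ext (Subtype.ext (MulEquiv.ext fun x => Subtype.ext ?_))
      show ((κ' x : W) : Ω) = _
      rw [hre]
      obtain ⟨x, hx⟩ := x
      have hx' : x ∈ A ⊔ C := hx
      rw [Subgroup.sup_eq_closure] at hx'
      induction hx' using Subgroup.closure_induction with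
      | mem y hy =>
        rcases hy with hy | hy
        · rw [hκ y hy]
          show y = z * y * z⁻¹
          rw [← Subgroup.mem_centralizer_iff.mp hz.2 y hy, mul_inv_cancel_right]
        · exact (hγval ⟨y, hy⟩).symm.trans (hze ⟨y, hy⟩)
      | one => rw [show (⟨1, hx⟩ : W) = 1 from rfl, map_one]; simp
      | mul u v hu hv ihu ihv =>
        have hu' : u ∈ W := by rw [hWdef, FusionSystem.PrimeResidual.ext, Subgroup.sup_eq_closure]; exact hu
        have hv' : v ∈ W := by rw [hWdef, FusionSystem.PrimeResidual.ext, Subgroup.sup_eq_closure]; exact hv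
        rw [show (⟨u * v, hx⟩ : W) = ⟨u, hu'⟩ * ⟨v, hv'⟩ from rfl, map_mul, Subgroup.coe_mul, ihu hu', ihv hv']
        show z * u * z⁻¹ * (z * v * z⁻¹) = z * (u * v) * z⁻¹
        group
      | inv u hu ihu =>
        have hu' : u ∈ W := by rw [hWdef, FusionSystem.PrimeResidual.ext, Subgroup.sup_eq_closure]; exact hu
        rw [show (⟨u⁻¹, hx⟩ : W) = (⟨u, hu'⟩ : W)⁻¹ from rfl, map_inv, Subgroup.coe_inv, ihu hu']
        show (z * u * z⁻¹)⁻¹ = z * u⁻¹ * z⁻¹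
        group
    exact heq ▸ hr
  have hTR : (T : Subgroup L) = R := by
    refine le_antisymm (fun t ht => ?_) hT
    obtain ⟨n, hn, hne⟩ := t.2
    obtain ⟨r, hr, hre⟩ := hcw n hn
    obtain ⟨r', hr', hre'⟩ := hcw n⁻¹ (N.inv_mem hn)
    have hκ : r' * t ∈ R := by
      refine hfixp _ ?_ fun x hx => ?_
      · obtain ⟨j, hj⟩ := IsPGroup.iff_orderOf.mp T.2 ⟨r' * t, (T : Subgroup L).mul_mem (hT hr') ht⟩
        exact ⟨j, by rwa [Subgroup.orderOf_mk] at hj⟩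
      · show ((((r' : F.autGroup W) : MulAut W) (((t : F.autGroup W) : MulAut W) ⟨x, hAW hx⟩) : W) : Ω) = x
        rw [hre', hne x hx]
        group
    have := R.mul_mem (R.inv_mem hr') hκ
    rwa [inv_mul_cancel_left] at this
  -- Frattini argument
  set K : Subgroup L := Subgroup.closure {a : L | ∃ j : ℕ, orderOf a = p ^ j} with hK
  haveI : K.Normal := by
    refine ⟨fun a ha g => ?_⟩
    induction ha using Subgroup.closure_induction with
    | mem x hx =>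
      obtain ⟨j, hj⟩ := hx
      exact Subgroup.subset_closure ⟨j, by
        rw [show g * x * g⁻¹ = MulAut.conj g x from rfl, MulEquiv.orderOf_eq, hj]⟩
    | one => simp
    | mul x y _ _ hx hy => rw [← conj_mul]; exact mul_mem hx hy
    | inv x _ hx =>
      rw [show g * x⁻¹ * g⁻¹ = (g * x * g⁻¹)⁻¹ by group]
      exact InvMemClass.inv_mem hx
  have hTK : (T : Subgroup L) ≤ K := fun t ht => Subgroup.subset_closure (by
    obtain ⟨j, hj⟩ := IsPGroup.iff_orderOf.mp T.2 ⟨t, ht⟩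
    exact ⟨j, by rwa [Subgroup.orderOf_mk] at hj⟩)
  obtain ⟨η₀, hη₀, hη₀e⟩ := h.toAut
  let η : L := ⟨⟨η₀, hη₀⟩, 1, N.one_mem, fun x hx => by rw [hη₀e]; simpa using hfix x hx⟩
  have hmem : η ∈ K ⊔ Subgroup.normalizer ((T : Subgroup L) : Set L) := by
    rw [sup_comm]
    exact (Sylow.normalizer_sup_eq_top' T hTK).ge (Subgroup.mem_top η)
  obtain ⟨o₁, ho₁, m, hm, hom⟩ := Subgroup.mem_sup_of_normal_left.mp hmem
  obtain ⟨n, hn, hne⟩ := m.2
  obtain ⟨r, hr, hre⟩ := hcw n hn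
  obtain ⟨r', hr', hre'⟩ := hcw n⁻¹ (N.inv_mem hn)
  -- `k = m c_n⁻¹` fixes `A` and normalises `R`
  set k := m * r' with hkdef
  have hk1 : ∀ (x : Ω) (hx : x ∈ A), ((((k : F.autGroup W) : MulAut W) ⟨x, hAW hx⟩ : W) : Ω) = x := by
    intro x hx
    have hy : n⁻¹ * x * n ∈ A := (Subgroup.mem_normalizer_iff''.mp (hN hn).2 x).mp hx
    show ((((m : F.autGroup W) : MulAut W) (((r' : F.autGroup W) : MulAut W) ⟨x, hAW hx⟩) : W) : Ω) = x
    rw [show ((r' : F.autGroup W) : MulAut W) ⟨x, hAW hx⟩ = ⟨n⁻¹ * x * n, hAW hy⟩ from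
      Subtype.ext (by rw [hre', inv_inv]), hne _ hy]
    group
  have hkR : k ∈ Subgroup.normalizer (R : Set L) := by
    rw [hTR] at hm
    exact mul_mem hm (Subgroup.le_normalizer hr')
  -- `η = o ∘ k` with `o` in the core
  set o₂ := o₁ * (k * r'⁻¹ * k⁻¹) with ho₂def
  have hηok : η = o₂ * k := by rw [← hom, ho₂def, hkdef]; group
  have ho₂ : o₂ ∈ K := K.mul_mem ho₁
    (hTK (hTR ▸ ((Subgroup.mem_normalizer_iff.mp hkR _).mp (R.inv_mem hr'))))
  have hKiso : ∀ a ∈ K, ∃ o, (ampleCore F p).IsIso W W o ∧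
      ∀ x : W, ((((a : F.autGroup W) : MulAut W) x : W) : Ω) = o x := by
    intro a ha
    induction ha using Subgroup.closure_induction with
    | mem a ha =>
      obtain ⟨j, hj⟩ := ha
      exact isIso_of_pElement hS hF hWS (a : F.autGroup W).2
        ⟨j, by rw [Subgroup.orderOf_coe, Subgroup.orderOf_coe, hj]⟩
    | one => exact ⟨_, IsIso.refl _ hWS, fun x => rfl⟩
    | mul a c _ _ iha ihc =>
      obtain ⟨u, hu, hue⟩ := iha
      obtain ⟨v, hv, hve⟩ := ihc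
      refine ⟨_, hv.comp hu, fun x => ?_⟩
      show ((((a : F.autGroup W) : MulAut W) (((c : F.autGroup W) : MulAut W) x) : W) : Ω) = _
      rw [hue, hve]
    | inv a _ iha =>
      obtain ⟨u, hu, hue⟩ := iha
      obtain ⟨v, hv, hvl, -⟩ := hu.symm
      refine ⟨v, hv, fun x => ?_⟩
      obtain ⟨y, rfl⟩ := ((a : F.autGroup W) : MulAut W).surjective x
      show ((((a : F.autGroup W) : MulAut W)⁻¹ _ : W) : Ω) = _
      rw [MulAut.inv_apply_self, hue, hvl y y.2]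
  obtain ⟨o, ho, hoe⟩ := hKiso o₂ ho₂
  -- extend `k` over `N`
  obtain ⟨k₀, hk₀, hk₀e⟩ := isIso_of_aut hWS (k : F.autGroup W).2
  have hWc : F.IsCentric W := (hF.autExtends_centralizer hS hA).2
  have hrec := hF.isReceptive_of_isFullyCentralized hS hWc.isFullyCentralized
  have hact : ∀ g ∈ N, ∃ c ∈ N, ∀ x ∈ W, k₀ (g * x * g⁻¹) = c * k₀ x * c⁻¹ := by
    intro g hg
    obtain ⟨rg, hrg, hrge⟩ := hcw g hg
    have h1 : k * rg * k⁻¹ ∈ R := (Subgroup.mem_normalizer_iff.mp hkR rg).mp hrg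
    obtain ⟨c, hc, -, hce⟩ := mem_autInducedBy_iff.mp
      (Subgroup.mem_subgroupOf.mp (Subgroup.mem_subgroupOf.mp h1))
    refine ⟨c, hc, fun x hx => ?_⟩
    have h2 := hce (((k : F.autGroup W) : MulAut W) ⟨x, hx⟩)
    rw [hk₀e] at h2
    rw [← h2]
    show _ = ((((k : F.autGroup W) : MulAut W) (((rg : F.autGroup W) : MulAut W)
      (((k : F.autGroup W) : MulAut W)⁻¹ (((k : F.autGroup W) : MulAut W) ⟨x, hx⟩))) : W) : Ω)
    rw [MulAut.inv_apply_self, hk₀e, hrge]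
  obtain ⟨k', N', hk', hk'e⟩ := hrec.extend hk₀ hNS hWN (fun g hg => conj_mem_ext hA.1 (hN hg))
    (fun g hg => by obtain ⟨c, hc, hce⟩ := hact g hg; exact ⟨c, hNS hc, hce⟩)
  have hN' : N' = N := by
    refine hk'.eq_of_le hNS (fun y hy => ?_) le_rfl
    obtain ⟨g, hg, rfl⟩ := hk'.surj hy
    obtain ⟨c, hc, hce⟩ := hact g hg
    have hg' : k' g ∈ S := hk'.le_right (hk'.mem hg)
    have hcc : c⁻¹ * k' g ∈ W := hWc.centralizerIn_le_self ⟨S.mul_mem (S.inv_mem (hNS hc)) hg', by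
      intro y hy
      obtain ⟨x, hx, rfl⟩ := hk₀.surj hy
      have h1 : k' (g * x * g⁻¹) = k' g * k' x * (k' g)⁻¹ := hk'.apply_conj hg (hWN hx)
      rw [hk'e _ ((Subgroup.mem_normalizer_iff.mp (conj_mem_ext hA.1 (hN hg)) x).mp hx), hk'e x hx, hce x hx] at h1
      calc k₀ x * (c⁻¹ * k' g) = c⁻¹ * (c * k₀ x * c⁻¹) * k' g := by group
        _ = c⁻¹ * (k' g * k₀ x * (k' g)⁻¹) * k' g := by rw [h1]
        _ = c⁻¹ * k' g * k₀ x := by group⟩
    have := N.mul_mem hc (hWN hcc)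
    rwa [mul_inv_cancel_left] at this
  subst hN'
  refine ⟨o, k', ho, hk', fun x hx => ?_, fun x hx => ⟨?_, ?_⟩⟩
  · rw [hk'e x (hAW hx), ← hk₀e ⟨x, hAW hx⟩]
    exact hk1 x hx
  · rw [hk'e x hx]
    exact hk₀.mem hx
  · rw [hk'e x hx, ← hη₀e ⟨x, hx⟩, show η₀ = ((η : F.autGroup W) : MulAut W) from rfl, hηok]
    show ((((o₂ : F.autGroup W) : MulAut W) (((k : F.autGroup W) : MulAut W) ⟨x, hx⟩) : W) : Ω) = _
    rw [hoe]
    exact congrArg o (hk₀e ⟨x, hx⟩)

end Cfsg.FusionSystem.PrimeResidual
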