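import Cfsg.Agent.Lib.Fusion.PrimeResidual.Main
import Cfsg.Agent.Lib.Fusion.PrimeResidual.Invariance

/-!
The residual of a weakly normal subsystem is invariant under the automorphisms of its subgroup.
-/

set_option autoImplicit false
set_option linter.unusedSectionVars false

namespace Cfsg.FusionSystem

universe u
variable {Ω : Type u} [Group Ω] {S T : Subgroup Ω} {E : FusionSystem T} {F : FusionSystem S}
  {p : ℕ} {P P' Q Q' : Subgroup Ω} {a b f : Ω → Ω}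

/-- The maps of `E` whose transports by every automorphism of `T` in `F` lie in `K`. -/
def transportSystem (hE : E.IsInvariantIn F) (K : FusionSystem T) : FusionSystem T where
  Hom P := {φ | φ ∈ E.Hom P ∧ ∀ (a : Ω → Ω) (P' : Subgroup Ω), F.IsIso T T a →
    (∀ y, y ∈ P' ↔ ∃ x ∈ P, a x = y) →
    ∃ (f : Ω → Ω) (Q' : Subgroup Ω), K.IsIso P' Q' f ∧ ∀ x : P, f (a x) = a (φ x)}
  le_of_mem h := E.le_of_mem h.1
  injective_of_mem h := E.injective_of_mem h.1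
  conj_mem := by
    intro P g hP hg
    refine ⟨E.conj_mem hP hg, fun a P' ha hP' => ?_⟩
    have hP'T : P' ≤ T := fun y hy => by
      obtain ⟨x, hx, rfl⟩ := (hP' y).mp hy
      exact ha.mem (hP hx)
    exact ⟨_, _, isIso_conj hP'T (ha.mem hg), fun x => (ha.apply_conj hg (hP x.2)).symm⟩
  comp_mem := by
    rintro P R φ ψ ⟨hφ, hφa⟩ ⟨hψ, hψa⟩ hh
    refine ⟨E.comp_mem hφ hψ hh, fun a P' ha hP' => ?_⟩
    obtain ⟨f, Q', hf, hfe⟩ := hφa a P' ha hP'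
    have hRT : R ≤ T := E.source_le hψ
    obtain ⟨R', -, -, hR'⟩ := ha.restrict hRT
    obtain ⟨g, Q'', hg, hge⟩ := hψa a R' ha hR'
    have hQR : Q' ≤ R' := fun y hy => by
      obtain ⟨z, hz, rfl⟩ := hf.surj hy
      obtain ⟨x, hx, rfl⟩ := (hP' z).mp hz
      rw [hfe ⟨x, hx⟩]
      exact (hR' _).mpr ⟨_, hh ⟨x, hx⟩, rfl⟩
    obtain ⟨Q₃, hres, -, -⟩ := hg.restrict hQR
    refine ⟨_, Q₃, hf.comp hres, fun x => ?_⟩
    show g (f (a x)) = a (ψ ⟨φ x, hh x⟩)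
    rw [hfe, hge ⟨φ x, hh x⟩]
  inv_mem := by
    rintro P φ ⟨hφ, hφa⟩
    obtain ⟨ψ, hψ, hψe⟩ := E.inv_mem hφ
    refine ⟨ψ, ⟨hψ, fun a P' ha hP' => ?_⟩, hψe⟩
    obtain ⟨P₁, -, -, hP₁⟩ := ha.restrict (E.source_le hφ)
    obtain ⟨f, Q', hf, hfe⟩ := hφa a P₁ ha hP₁
    have heq : Q' = P' := Subgroup.ext fun y => by
      rw [hP']
      constructor
      · intro hy
        obtain ⟨z, hz, rfl⟩ := hf.surj hy
        obtain ⟨x, hx, rfl⟩ := (hP₁ z).mp hz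
        exact ⟨_, ⟨⟨x, hx⟩, rfl⟩, (hfe _).symm⟩
      · rintro ⟨_, ⟨x, rfl⟩, rfl⟩
        rw [← hfe x]
        exact hf.mem ((hP₁ _).mpr ⟨x, x.2, rfl⟩)
    subst heq
    obtain ⟨g, hg, hgl, -⟩ := hf.symm
    refine ⟨g, P₁, hg, ?_⟩
    rintro ⟨_, x, rfl⟩
    rw [hψe x]
    show g (a (φ x)) = a x
    rw [← hfe x, hgl _ ((hP₁ _).mpr ⟨x, x.2, rfl⟩)]

/-- The core of a weakly normal subsystem is invariant. -/
theorem IsWeaklyNormalIn.ampleCore_transport [Finite S] [Fact p.Prime] (hS : IsPGroup p S)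
    (hE : E.IsWeaklyNormalIn F p) (ha : F.IsIso T T a) (hf : (ampleCore E p).IsIso P Q f)
    (hP' : ∀ y, y ∈ P' ↔ ∃ x ∈ P, a x = y) :
    ∃ f' Q', (ampleCore E p).IsIso P' Q' f' ∧ ∀ x ∈ P, f' (a x) = a (f x) := by
  haveI := finite_of_le hE.2.2.2.1.1
  have hT : IsPGroup p T := hS.to_le hE.2.2.2.1.1
  have hK : IsAmple E p (transportSystem hE.2.2 (ampleCore E p)) := by
    refine ⟨fun P φ h => h.1, fun R hR => ?_⟩
    rw [Subgroup.map_le_iff_le_comap]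
    refine (Subgroup.closure_le _).mpr fun c hc => ?_
    obtain ⟨k, hk⟩ := hc
    obtain ⟨g, hg, hge⟩ := isPAut_of_aut hR.1 c.2 ⟨k, by rw [Subgroup.orderOf_coe, hk]⟩
    obtain ⟨φ, hφ, hφr, hφe⟩ := id hg.1
    refine (transportSystem hE.2.2 (ampleCore E p)).mem_autGroup_of_map (φ := φ) ⟨hφ, fun a' R' ha' hR' => ?_⟩
      fun x => (hge x).trans (hφe x).symm
    obtain ⟨g', hg', hg'e⟩ := hE.2.2.pAut_transport ha' le_rfl hg hR.1 hR'
    obtain ⟨β, hβ, hβe, hβp⟩ := hg'.toAut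
    obtain ⟨w, hw, hwe⟩ := PrimeResidual.isIso_of_pElement hT hE.1 hg'.1.le_left hβ hβp
    exact ⟨w, R', hw, fun x => by
      rw [← hwe ⟨a' x, (hR' _).mpr ⟨x, x.2, rfl⟩⟩, hβe, hφe]
      exact hg'e x x.2⟩
  obtain ⟨φ, hφ, -, hφe⟩ := hf
  obtain ⟨f', Q', hf', hf'e⟩ := (isAmple_ampleCore _ hK P hφ).2 a P' ha hP'
  exact ⟨f', Q', hf', fun x hx => (hf'e ⟨x, hx⟩).trans (congrArg a (hφe ⟨x, hx⟩))⟩

namespace PrimeResidual

variable [Finite S] [Finite T] [Fact p.Prime]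

/-- The generators of the automorphisms of the residual are permuted by `Aut_F(T)`. -/
theorem Gen.transport (hS : IsPGroup p S) (hE : E.IsWeaklyNormalIn F p) (ha : F.IsIso T T a)
    (hb : Gen E p b) : ∃ c, Gen E p c ∧ ∀ x ∈ T, c (a x) = a (b x) := by
  have hm : ∀ y, y ∈ T ↔ ∃ x ∈ T, a x = y := fun y => ⟨ha.surj, fun ⟨x, hx, he⟩ => he ▸ ha.mem hx⟩
  induction hb with
  | base b P Q hb hP hPQ =>
    obtain ⟨c, hc, hce⟩ := hE.2.2.iso_transport ha le_rfl hb le_rfl le_rfl hm hm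
    obtain ⟨P', hP'i, -, hP'⟩ := ha.restrict hP.1
    obtain ⟨f', Q', hf', hf'e⟩ := hE.ampleCore_transport hS ha hPQ hP'
    refine ⟨c, .base c P' Q' hc (hE.2.2.isCentric_of_isIso hP hP'i) (hf'.congr fun y hy => ?_), hce⟩
    obtain ⟨x, hx, rfl⟩ := (hP' y).mp hy
    rw [hce x (hP.1 hx), hf'e x hx]
  | comp b c hb hc ihb ihc =>
    obtain ⟨b', hb', hbe⟩ := ihb
    obtain ⟨c', hc', hce⟩ := ihc
    refine ⟨_, .comp b' c' hb' hc', fun x hx => ?_⟩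
    show c' (b' (a x)) = a (c (b x))
    rw [hbe x hx, hce _ (hb.isIso.mem hx)]
  | congr b c hb he ihb =>
    obtain ⟨b', hb', hbe⟩ := ihb
    exact ⟨b', hb', fun x hx => by rw [hbe x hx, he x hx]⟩

/-- The residual is invariant under `Aut_F(T)`. -/
theorem residual_transport (hS : IsPGroup p S) (hT : IsPGroup p T) (hE : E.IsWeaklyNormalIn F p)
    (ha : F.IsIso T T a) {φ : P →* Ω} (hφ : φ ∈ (residual hT hE.1).Hom P)
    (hP' : ∀ y, y ∈ P' ↔ ∃ x ∈ P, a x = y) :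
    ∃ f' Q', (residual hT hE.1).IsIso P' Q' f' ∧ ∀ x : P, f' (a x) = a (φ x) := by
  obtain ⟨-, b, Q, f, hb, hf, hφe⟩ := hφ
  obtain ⟨f', Q', hf', hf'e⟩ := hE.ampleCore_transport hS ha hf hP'
  obtain ⟨c, hc, hce⟩ := hb.transport hS hE ha
  have hres := hf'.mono (E' := residual hT hE.1) core_le_residual
  obtain ⟨Q'', hQ'', -, -⟩ := (hc.mem_residual (hS := hT) (hF := hE.1)).restrict hf'.le_right
  refine ⟨fun y => c (f' y), Q'', hres.comp hQ'', fun x => ?_⟩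
  show c (f' (a x)) = a (φ x)
  rw [hf'e x x.2, hce _ (hf.le_right (hf.mem x.2)), hφe]

end PrimeResidual

end Cfsg.FusionSystem
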